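import Cfsg.Agent.Lib.Recognition.CNSuzuki.Module
import Mathlib.GroupTheory.GroupAction.ConjAct
import Mathlib.GroupTheory.Commutator.Basic
import Mathlib.GroupTheory.PGroup

/-!
# A 2-group extended by a Suzuki group with fixed-point-free elements of odd order is elementary

`p : G → Sz F e` is surjective with a 2-group as kernel, on which the elements of odd order of `G`
fix only the identity. Then the kernel is elementary abelian.
-/

set_option autoImplicit false
set_option linter.unusedSectionVars false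
set_option linter.style.haveILetI false

namespace CfsgLib.Recognition.CNSuzuki

open Cfsg.Lie CfsgLib.KnownB.SzElem CfsgLib.KnownB.Suzuki
open scoped IsMulCommutative

universe u v

/-- Automorphisms of a commutative group as endomorphisms of the additive copy. -/
def autToEnd (A : Type*) [CommGroup A] : MulAut A →* AddMonoid.End (Additive A) where
  toFun f := MonoidHom.toAdditive f.toMonoidHom
  map_one' := rfl
  map_mul' _ _ := rfl

section

variable {G : Type*} [Group G] {Q : Type*} [Group Q] (p : G →* Q) (hp : Function.Surjective p)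
variable (A : Subgroup G) [A.Normal] [IsMulCommutative A]
variable (hc : ∀ g ∈ p.ker, ∀ a ∈ A, g * a = a * g)

include hc in
theorem ker_le_ker_conj : p.ker ≤ (MulAut.conjNormal : G →* MulAut A).ker := fun g hg =>
  MonoidHom.mem_ker.2 (MulEquiv.ext fun a => Subtype.ext (by
    rw [MulAut.conjNormal_apply, hc g hg a a.2, mul_inv_cancel_right]; rfl))

/-- The action of `Q` on a normal abelian subgroup centralised by the kernel of `p`. -/
noncomputable def actRep : Q →* AddMonoid.End (Additive A) :=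
  (autToEnd A).comp (p.liftOfSurjective hp ⟨MulAut.conjNormal, ker_le_ker_conj p A hc⟩)

theorem coe_actRep (g : G) (a : Additive A) :
    ((Additive.toMul (actRep p hp A hc (p g) a) : A) : G) = g * (Additive.toMul a : A) * g⁻¹ := by
  show (((p.liftOfSurjective hp ⟨MulAut.conjNormal, ker_le_ker_conj p A hc⟩) (p g)
    (Additive.toMul a) : A) : G) = _
  rw [MonoidHom.liftOfRightInverse_comp_apply]
  exact MulAut.conjNormal_apply _ _

theorem oddFpf_act [Finite G]
    (hfpf : ∀ g : G, Odd (orderOf g) → g ≠ 1 → ∀ x ∈ A, g * x = x * g → x = 1) :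
    OddFpf (actRep p hp A hc) := by
  intro q hq hq1 a ha
  obtain ⟨g, rfl⟩ := hp q
  obtain ⟨k, m, hm, hn⟩ := Nat.exists_eq_two_pow_mul_odd (orderOf_pos g).ne'
  have hfix : Commute g ((Additive.toMul a : A) : G) := by
    have h1 := coe_actRep p hp A hc g a
    rw [ha] at h1
    show g * _ = _ * g
    rw [← mul_inv_eq_iff_eq_mul]
    exact h1.symm
  have hpg : p (g ^ 2 ^ k) ≠ 1 := fun h => hq1 (by
    rw [map_pow] at h
    exact orderOf_eq_one_iff.1 (Nat.eq_one_of_dvd_coprimes
      ((Nat.coprime_two_right.2 hq).pow_right k) dvd_rfl (orderOf_dvd_of_pow_eq_one h)))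
  have hodd : Odd (orderOf (g ^ 2 ^ k)) := by
    rw [orderOf_pow, hn, Nat.gcd_eq_right (dvd_mul_right _ _),
      Nat.mul_div_cancel_left _ (by positivity)]
    exact hm
  have h1 := hfpf _ hodd (fun h => hpg (by rw [h, map_one])) _ (Additive.toMul a : A).2
    (hfix.pow_left _).eq
  exact Additive.toMul.injective (Subtype.ext h1)

end

variable {F : Type u} [Field F] [Fintype F] {e : ℕ}

/-- The kernel is elementary abelian. -/
theorem elementary_of_fpf (he : Twist F e) (hb : ∃ b : F, b ^ e ≠ b) (n : ℕ) :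
    ∀ {G : Type v} [Group G] [Finite G] (p : G →* Sz F e), Nat.card G = n →
      Function.Surjective p → IsPGroup 2 p.ker →
      (∀ g : G, Odd (orderOf g) → g ≠ 1 → ∀ x ∈ p.ker, g * x = x * g → x = 1) →
      ∀ x ∈ p.ker, x ^ 2 = 1 ∧ ∀ y ∈ p.ker, x * y = y * x := by
  induction n using Nat.strong_induction_on with
  | _ n ih =>
    intro G _ _ p hn hp h2 hfpf
    haveI : Fact (Nat.Prime 2) := ⟨Nat.prime_two⟩
    set N := p.ker with hN
    rcases eq_or_ne N ⊥ with hbot | hbot
    · intro x hx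
      rw [hbot, Subgroup.mem_bot] at hx
      subst hx
      exact ⟨one_pow 2, fun y _ => by rw [one_mul, mul_one]⟩
    -- the involutions of the centre
    let Z : Subgroup G :=
      { carrier := {x | x ∈ N ∧ x * x = 1 ∧ ∀ y ∈ N, x * y = y * x}
        one_mem' := ⟨one_mem _, mul_one 1, fun y _ => by rw [one_mul, mul_one]⟩
        mul_mem' := fun {a b} ha hb =>
          ⟨mul_mem ha.1 hb.1, by
            rw [mul_assoc, ← mul_assoc b, ← ha.2.2 b hb.1, mul_assoc a, hb.2.1, mul_one, ha.2.1],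
            fun y hy => by rw [mul_assoc, hb.2.2 y hy, ← mul_assoc, ha.2.2 y hy, mul_assoc]⟩
        inv_mem' := fun {a} ha => by
          rw [inv_eq_of_mul_eq_one_left ha.2.1]; exact ha }
    have hZmem : ∀ x, x ∈ Z ↔ x ∈ N ∧ x * x = 1 ∧ ∀ y ∈ N, x * y = y * x := fun x => Iff.rfl
    haveI : Z.Normal := ⟨fun x hx g => ⟨(inferInstance : N.Normal).conj_mem x hx.1 g,
      by
        rw [show g * x * g⁻¹ * (g * x * g⁻¹) = g * (x * x) * g⁻¹ by group, hx.2.1, mul_one,
          mul_inv_cancel],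
      fun y hy => by
        have h1 := hx.2.2 (g⁻¹ * y * g) (by
          simpa using (inferInstance : N.Normal).conj_mem y hy g⁻¹)
        calc g * x * g⁻¹ * y = g * (x * (g⁻¹ * y * g)) * g⁻¹ := by group
          _ = g * (g⁻¹ * y * g * x) * g⁻¹ := by rw [h1]
          _ = y * (g * x * g⁻¹) := by group⟩⟩
    have hZ1 : ∃ z ∈ Z, z ≠ 1 := by
      haveI : Nontrivial N := N.nontrivial_iff_ne_bot.2 hbot
      haveI := h2.center_nontrivial
      obtain ⟨c, hc⟩ := exists_ne (1 : Subgroup.center N)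
      have hdvd : 2 ∣ orderOf c := by
        obtain ⟨k, hk⟩ := (IsPGroup.iff_orderOf.1 (h2.to_subgroup _)) c
        rcases k with _ | k
        · rw [pow_zero] at hk; exact absurd (orderOf_eq_one_iff.1 hk) hc
        · exact ⟨2 ^ k, by rw [hk, pow_succ']⟩
      obtain ⟨w, hw⟩ := exists_prime_orderOf_dvd_card' (G := Subgroup.center N) 2
        (hdvd.trans (orderOf_dvd_natCard c))
      refine ⟨((w : N) : G), ⟨(w : N).2, ?_, fun y hy => ?_⟩, fun h => ?_⟩
      · have h1 : w * w = 1 := by rw [← pow_two, ← hw, pow_orderOf_eq_one]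
        exact congrArg (fun t : Subgroup.center N => ((t : N) : G)) h1
      · exact congrArg Subtype.val (Subgroup.mem_center_iff.1 w.2 ⟨y, hy⟩).symm
      · have h1 : w = 1 := Subtype.ext (Subtype.ext h)
        rw [h1, orderOf_one] at hw
        exact absurd hw (by decide)
    haveI : IsMulCommutative Z := ⟨⟨fun a b => Subtype.ext (a.2.2.2 b b.2.1)⟩⟩
    have hcZ : ∀ g ∈ p.ker, ∀ a ∈ Z, g * a = a * g := fun g hg a ha => (ha.2.2 g hg).symm
    set ρZ := actRep p hp Z hcZ with hρZ
    have hfZ : OddFpf ρZ := oddFpf_act p hp Z hcZ fun g hg hg1 x hx h => hfpf g hg hg1 x hx.1 h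
    have h2Z : ∀ z : Additive Z, (2 : ℕ) • z = 0 := fun z => by
      refine Additive.toMul.injective (Subtype.ext ?_)
      rw [toMul_nsmul, pow_two]
      exact (Additive.toMul z : Z).2.2.1
    -- the quotient by them
    let p' : G ⧸ Z →* Sz F e := QuotientGroup.lift Z p fun x hx => hx.1
    let mk := QuotientGroup.mk' Z
    have hp'mk : ∀ g, p' (mk g) = p g := fun g => rfl
    have hp' : Function.Surjective p' := fun q => by
      obtain ⟨g, rfl⟩ := hp q; exact ⟨mk g, rfl⟩
    have hker : ∀ g, mk g ∈ p'.ker ↔ g ∈ N := fun g => by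
      rw [MonoidHom.mem_ker, hp'mk]; rfl
    have h2' : IsPGroup 2 p'.ker := fun ⟨y, hy⟩ => by
      induction y using QuotientGroup.induction_on with
      | _ g =>
        obtain ⟨k, hk⟩ := h2 ⟨g, (hker g).1 hy⟩
        exact ⟨k, Subtype.ext (by
          show (g : G ⧸ Z) ^ 2 ^ k = 1
          rw [← QuotientGroup.mk_pow, show g ^ 2 ^ k = 1 from congrArg Subtype.val hk]; rfl)⟩
    have hfpf' : ∀ y : G ⧸ Z, Odd (orderOf y) → y ≠ 1 →
        ∀ x ∈ p'.ker, y * x = x * y → x = 1 := by
      intro y hy hy1 x hx hxy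
      induction x using QuotientGroup.induction_on with
      | _ x =>
        induction y using QuotientGroup.induction_on with
        | _ g =>
          obtain ⟨k, m, hm, hn⟩ := Nat.exists_eq_two_pow_mul_odd (orderOf_pos g).ne'
          set g' := g ^ 2 ^ k with hg'
          have hodd : Odd (orderOf g') := by
            rw [hg', orderOf_pow, hn, Nat.gcd_eq_right (dvd_mul_right _ _),
              Nat.mul_div_cancel_left _ (by positivity)]
            exact hm
          have hg'1 : g' ≠ 1 := fun h => hy1 (by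
            refine orderOf_eq_one_iff.1 (Nat.eq_one_of_dvd_coprimes
              ((Nat.coprime_two_right.2 hy).pow_right k) dvd_rfl (orderOf_dvd_of_pow_eq_one ?_))
            rw [← QuotientGroup.mk_pow, ← hg', h]; rfl)
          have hc : x⁻¹ * (g' * x * g'⁻¹) ∈ Z := by
            rw [← QuotientGroup.eq_one_iff]
            have h1 : Commute ((g : G ⧸ Z) ^ 2 ^ k) (x : G ⧸ Z) := Commute.pow_left hxy _
            rw [← QuotientGroup.mk_pow, ← hg'] at h1
            simp only [QuotientGroup.mk_mul, QuotientGroup.mk_inv]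
            rw [h1.eq]; group
          have hinj : Function.Injective fun z : Z => (⟨g' * z * g'⁻¹ * (z : G)⁻¹,
              mul_mem (Subgroup.Normal.conj_mem inferInstance _ z.2 g') (inv_mem z.2)⟩ : Z) := by
            intro a b hab
            have h1 : g' * a * g'⁻¹ * (a : G)⁻¹ = g' * b * g'⁻¹ * (b : G)⁻¹ := congrArg Subtype.val hab
            have h3 : g' * a * g'⁻¹ * (b : G) = g' * b * g'⁻¹ * (a : G) := by
              have hab' : (a : G) * b = b * a := a.2.2.2 b b.2.1
              calc g' * a * g'⁻¹ * (b : G) = g' * a * g'⁻¹ * (a : G)⁻¹ * (a * b) := by group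
                _ = g' * b * g'⁻¹ * (b : G)⁻¹ * (b * a) := by rw [h1, hab']
                _ = g' * b * g'⁻¹ * (a : G) := by group
            have h4 := hfpf g' hodd hg'1 ((a : G)⁻¹ * b) (mul_mem (inv_mem a.2.1) b.2.1) (by
              have hb' : (b : G) * b = 1 := b.2.2.1
              have ha' : (a : G)⁻¹ = a := inv_eq_of_mul_eq_one_left a.2.2.1
              have hbc : g' * b * g'⁻¹ ∈ Z := Subgroup.Normal.conj_mem inferInstance _ b.2 g'
              rw [ha']
              calc g' * ((a : G) * b) = g' * a * g'⁻¹ * (g' * b * g'⁻¹) * g' := by group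
                _ = g' * a * g'⁻¹ * ((b : G) * b) * (g' * b * g'⁻¹) * g' := by rw [hb', mul_one]
                _ = g' * b * g'⁻¹ * (a : G) * b * (g' * b * g'⁻¹) * g' := by
                  rw [← mul_assoc _ (b : G), h3]
                _ = g' * b * g'⁻¹ * ((g' * b * g'⁻¹) * ((a : G) * b)) * g' := by
                  rw [hbc.2.2 _ (mul_mem a.2.1 b.2.1)]; group
                _ = (g' * b * g'⁻¹ * (g' * b * g'⁻¹)) * ((a : G) * b) * g' := by group
                _ = (a : G) * b * g' := by rw [hbc.2.1, one_mul])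
            exact Subtype.ext (inv_mul_eq_one.1 h4)
          obtain ⟨z, hz⟩ := Finite.injective_iff_surjective.1 hinj (⟨_, hc⟩ : Z)⁻¹
          have hz' : g' * (z : G) * g'⁻¹ * (z : G)⁻¹ = (x⁻¹ * (g' * x * g'⁻¹))⁻¹ :=
            congrArg Subtype.val hz
          have hx0 : x ∈ N := (hker x).1 hx
          have h5 : g' * (x * z) = x * z * g' := by
            have hgz : g' * (z : G) * g'⁻¹ = (x⁻¹ * (g' * x * g'⁻¹))⁻¹ * z := by
              rw [← hz']; group
            calc g' * (x * z) = g' * x * g'⁻¹ * (g' * (z : G) * g'⁻¹) * g' := by group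
              _ = g' * x * g'⁻¹ * ((x⁻¹ * (g' * x * g'⁻¹))⁻¹ * z) * g' := by rw [hgz]
              _ = x * z * g' := by group
          have h6 := hfpf g' hodd hg'1 _ (mul_mem hx0 z.2.1) h5
          rw [QuotientGroup.eq_one_iff, eq_inv_of_mul_eq_one_left h6]
          exact inv_mem z.2
    have hlt : Nat.card (G ⧸ Z) < n := by
      obtain ⟨z, hz, hz1⟩ := hZ1
      have h1 : 1 < Nat.card Z :=
        Subgroup.one_lt_card_iff_ne_bot Z |>.2 fun h => hz1 (by rwa [h, Subgroup.mem_bot] at hz)
      rw [← hn, Z.card_eq_card_quotient_mul_card_subgroup]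
      exact lt_mul_of_one_lt_right Nat.card_pos h1
    have hIH := ih _ hlt p' rfl hp' h2' hfpf'
    have hsq : ∀ x ∈ N, x * x ∈ Z := fun x hx => by
      rw [← QuotientGroup.eq_one_iff, QuotientGroup.mk_mul, ← pow_two]
      exact (hIH _ ((hker x).2 hx)).1
    have hcomm : ∀ x ∈ N, ∀ y ∈ N, x * y * x⁻¹ * y⁻¹ ∈ Z := fun x hx y hy => by
      rw [← QuotientGroup.eq_one_iff]
      simp only [QuotientGroup.mk_mul, QuotientGroup.mk_inv]
      rw [(hIH (x : G ⧸ Z) ((hker x).2 hx)).2 (y : G ⧸ Z) ((hker y).2 hy)]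
      group
    -- the commutator pairing
    haveI : IsMulCommutative p'.ker :=
      ⟨⟨fun a b => Subtype.ext ((hIH a a.2).2 b b.2)⟩⟩
    have hcN : ∀ g ∈ p'.ker, ∀ a ∈ p'.ker, g * a = a * g := fun g hg a ha => (hIH g hg).2 a ha
    set ρN := actRep p' hp' p'.ker hcN with hρN
    have hfN : OddFpf ρN := oddFpf_act p' hp' p'.ker hcN hfpf'
    have h2N : ∀ a : Additive p'.ker, (2 : ℕ) • a = 0 := fun a => by
      refine Additive.toMul.injective (Subtype.ext ?_)
      rw [toMul_nsmul, SubgroupClass.coe_pow]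
      exact (hIH _ (Additive.toMul a : p'.ker).2).1
    let r : Additive p'.ker → G := fun a => ((Additive.toMul a : p'.ker) : G ⧸ Z).out
    have hr : ∀ a, mk (r a) = ((Additive.toMul a : p'.ker) : G ⧸ Z) := fun a =>
      QuotientGroup.out_eq' _
    have hrN : ∀ a, r a ∈ N := fun a => (hker _).1 (by rw [hr]; exact (Additive.toMul a : p'.ker).2)
    have hwell : ∀ x x' y, x' ∈ N → y ∈ N → mk x = mk x' →
        x * y * x⁻¹ * y⁻¹ = x' * y * x'⁻¹ * y⁻¹ ∧ y * x * y⁻¹ * x⁻¹ = y * x' * y⁻¹ * x'⁻¹ := by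
      intro x x' y hx' hy h
      obtain ⟨z, hz, rfl⟩ : ∃ z ∈ Z, x = z * x' :=
        ⟨x * x'⁻¹, by
          rw [← QuotientGroup.eq_one_iff, QuotientGroup.mk_mul, QuotientGroup.mk_inv]
          show mk x * (mk x')⁻¹ = 1
          rw [h, mul_inv_cancel], by group⟩
      have hzc : ∀ w ∈ N, z * w = w * z := hz.2.2
      constructor
      · calc z * x' * y * (z * x')⁻¹ * y⁻¹ = z * (x' * y * x'⁻¹) * z⁻¹ * y⁻¹ := by group
          _ = x' * y * x'⁻¹ * y⁻¹ := by
            rw [hzc _ (mul_mem (mul_mem hx' hy) (inv_mem hx'))]; group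
      · calc y * (z * x') * y⁻¹ * (z * x')⁻¹ = y * z * (x' * y⁻¹ * x'⁻¹) * z⁻¹ := by group
          _ = y * ((x' * y⁻¹ * x'⁻¹) * z) * z⁻¹ := by
            rw [mul_assoc y, hzc _ (mul_mem (mul_mem hx' (inv_mem hy)) (inv_mem hx'))]
          _ = _ := by group
    let f : Additive p'.ker → Additive p'.ker → Additive Z := fun a b =>
      Additive.ofMul ⟨r a * r b * (r a)⁻¹ * (r b)⁻¹, hcomm _ (hrN a) _ (hrN b)⟩
    have hfl : ∀ a a' b, f (a + a') b = f a b + f a' b := fun a a' b => by
      refine Additive.toMul.injective (Subtype.ext ?_)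
      show r (a + a') * r b * (r (a + a'))⁻¹ * (r b)⁻¹ =
        (r a * r b * (r a)⁻¹ * (r b)⁻¹) * (r a' * r b * (r a')⁻¹ * (r b)⁻¹)
      have h1 : mk (r (a + a')) = mk (r a * r a') := by rw [map_mul, hr, hr, hr]; rfl
      rw [(hwell _ (r a * r a') (r b) (mul_mem (hrN a) (hrN a')) (hrN b) h1).1]
      have hc := (hcomm _ (hrN a') _ (hrN b)).2.2
      calc r a * r a' * r b * (r a * r a')⁻¹ * (r b)⁻¹
          = r a * ((r a' * r b * (r a')⁻¹ * (r b)⁻¹) * (r b * (r a)⁻¹ * (r b)⁻¹)) := by group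
        _ = r a * ((r b * (r a)⁻¹ * (r b)⁻¹) * (r a' * r b * (r a')⁻¹ * (r b)⁻¹)) := by
          rw [hc _ (mul_mem (mul_mem (hrN b) (inv_mem (hrN a))) (inv_mem (hrN b)))]
        _ = _ := by group
    have hfr : ∀ a b b', f a (b + b') = f a b + f a b' := fun a b b' => by
      refine Additive.toMul.injective (Subtype.ext ?_)
      show r a * r (b + b') * (r a)⁻¹ * (r (b + b'))⁻¹ =
        (r a * r b * (r a)⁻¹ * (r b)⁻¹) * (r a * r b' * (r a)⁻¹ * (r b')⁻¹)
      have h1 : mk (r (b + b')) = mk (r b * r b') := by rw [map_mul, hr, hr, hr]; rfl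
      rw [(hwell _ (r b * r b') (r a) (mul_mem (hrN b) (hrN b')) (hrN a) h1).2]
      have hc := (hcomm _ (hrN a) _ (hrN b')).2.2
      calc r a * (r b * r b') * (r a)⁻¹ * (r b * r b')⁻¹
          = r a * r b * (r a)⁻¹ * ((r a * r b' * (r a)⁻¹ * (r b')⁻¹) * (r b)⁻¹) := by group
        _ = r a * r b * (r a)⁻¹ * ((r b)⁻¹ * (r a * r b' * (r a)⁻¹ * (r b')⁻¹)) := by
          rw [hc _ (inv_mem (hrN b))]
        _ = _ := by group
    let β : Additive p'.ker →+ Additive p'.ker →+ Additive Z :=
      AddMonoidHom.mk' (fun a => AddMonoidHom.mk' (f a) (hfr a))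
        fun a a' => AddMonoidHom.ext fun b => hfl a a' b
    have hβ : ∀ q a b, β (ρN q a) (ρN q b) = ρZ q (β a b) := by
      intro q a b
      obtain ⟨g, rfl⟩ := hp q
      refine Additive.toMul.injective (Subtype.ext ?_)
      rw [coe_actRep]
      show r (ρN (p g) a) * r (ρN (p g) b) * (r (ρN (p g) a))⁻¹ * (r (ρN (p g) b))⁻¹ =
        g * (r a * r b * (r a)⁻¹ * (r b)⁻¹) * g⁻¹
      have hmk : ∀ a, mk (r (ρN (p g) a)) = mk (g * r a * g⁻¹) := fun a => by
        rw [hr, ← hp'mk, hρN, coe_actRep, map_mul, map_mul, map_inv, hr]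
      have hcj : ∀ a, g * r a * g⁻¹ ∈ N := fun a => (inferInstance : N.Normal).conj_mem _ (hrN a) g
      rw [(hwell _ (g * r a * g⁻¹) _ (hcj a) (hrN _) (hmk a)).1,
        (hwell _ (g * r b * g⁻¹) _ (hcj b) (hcj a) (hmk b)).2]
      group
    have hβ0 := biadditive_zero he hb _ ρN ρN ρZ rfl h2N h2N h2Z hfN hfN hfZ β hβ
    have habel : ∀ x ∈ N, ∀ y ∈ N, x * y = y * x := fun x hx y hy => by
      let a : Additive p'.ker := Additive.ofMul ⟨mk x, (hker x).2 hx⟩
      let b : Additive p'.ker := Additive.ofMul ⟨mk y, (hker y).2 hy⟩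
      have h1 : r a * r b * (r a)⁻¹ * (r b)⁻¹ = 1 :=
        congrArg (fun z : Additive Z => ((Additive.toMul z : Z) : G)) (hβ0 a b)
      rw [(hwell (r a) x (r b) hx (hrN b) (hr a)).1, (hwell (r b) y x hy hx (hr b)).2] at h1
      calc x * y = (x * y * x⁻¹ * y⁻¹) * (y * x) := by group
        _ = y * x := by rw [h1, one_mul]
    -- exponent two
    haveI : IsMulCommutative p.ker := ⟨⟨fun a b => Subtype.ext (habel a a.2 b b.2)⟩⟩
    have hc2 : ∀ g ∈ p.ker, ∀ a ∈ p.ker, g * a = a * g := fun g hg a ha => habel g hg a ha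
    intro x hx
    refine ⟨?_, habel x hx⟩
    have h4 : ∀ a : Additive p.ker, (4 : ℕ) • a = 0 := fun a => by
      refine Additive.toMul.injective (Subtype.ext ?_)
      rw [toMul_nsmul, SubgroupClass.coe_pow]
      show ((Additive.toMul a : p.ker) : G) ^ (2 * 2) = 1
      rw [pow_mul, pow_two, pow_two]
      exact (hsq _ (Additive.toMul a : p.ker).2).2.1
    have h1 := two_nsmul_eq_zero he hb (actRep p hp p.ker hc2) h4
      (oddFpf_act p hp p.ker hc2 hfpf) (Additive.ofMul ⟨x, hx⟩)
    exact congrArg (fun z : Additive p.ker => ((Additive.toMul z : p.ker) : G)) h1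

end CfsgLib.Recognition.CNSuzuki
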