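import Cfsg.Agent.Lib.KnownB.SuzukiSylow
import Cfsg.Agent.Lib.KnownB.SuzukiAut
import Mathlib.GroupTheory.PGroup
import Mathlib.RingTheory.IntegralDomain
import Mathlib.FieldTheory.Finite.Basic

/-!
# Fixed-point-free modules of the Suzuki groups in characteristic two: the irreducible ones

A module of `Sz F e` over a field of characteristic two on which the elements of odd order fix only
zero is, if irreducible, a Galois twist of the natural module: if `v` is an eigenvector of the torus
fixed by the Sylow 2-subgroup and `ψ` a fixed functional, then `ψ (g v)` is an additive function of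
the lower left entry of `g`, because an element of order five fixes nothing.
-/

set_option autoImplicit false
set_option linter.style.haveILetI false
set_option linter.unusedSectionVars false

namespace CfsgLib.Recognition.CNSuzuki

open Matrix Cfsg.Lie CfsgLib.KnownB.SzElem CfsgLib.KnownB.Suzuki

universe u v

/-- The elements of odd order, other than the identity, fix only zero. -/
def OddFpf {G : Type*} [Group G] {X : Type*} [AddCommGroup X] (ρ : G →* AddMonoid.End X) : Prop :=
  ∀ g : G, Odd (orderOf g) → g ≠ 1 → ∀ x, ρ g x = x → x = 0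

variable {F : Type u} [Field F] {e : ℕ}

/-- The lower left entry of `P a b * W * P c d * H t`. -/
theorem entry_bruhat (he : Twist F e) (a b c d : F) (t : Fˣ) :
    mat (P he a b * W he * P he c d * H e he t) 3 0 = (t : F) ^ (e + 1) := by
  simp [mat_mul, mat_P, mat_W, mat, coe_H, Hmat, Jmat, Pmat, Matrix.mul_apply, Fin.sum_univ_four]

/-- The lower left entry of `W * P a b * W`. -/
theorem entry_WPW (he : Twist F e) (a b : F) :
    mat (W he * P he a b * W he) 3 0 = nrm e a b := by
  simp [mat_mul, mat_P, mat_W, Jmat, Pmat, Matrix.mul_apply, Fin.sum_univ_four]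

/-- The matrix of the element of order five. -/
theorem mat_five (he : Twist F e) :
    mat (P he 0 1 * W he) = !![1, 1, 0, 1; 1, 0, 1, 0; 0, 1, 0, 0; 1, 0, 0, 0] := by
  have h0 : (0 : F) ^ e = 0 := zero_pow (Nat.ne_zero_of_lt he.one_lt)
  rw [mat_mul, mat_P, mat_W]
  ext i j
  fin_cases i <;> fin_cases j <;>
    simp [Jmat, Pmat, nrm, h0, Matrix.mul_apply, Fin.sum_univ_four]

/-- An element of order five. -/
theorem five_pow (he : Twist F e) : (P he 0 1 * W he) ^ 5 = 1 := by
  have h2 : (1 : F) + 1 = 0 := by rw [one_add_one_eq_two]; exact he.two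
  set x := P he 0 1 * W he with hx
  have e2 : mat (x * x) = !![1, 1, 1, 1; 1, 0, 0, 1; 1, 0, 1, 0; 1, 1, 0, 1] := by
    rw [mat_mul, mat_five he]
    ext i j
    fin_cases i <;> fin_cases j <;> simp [Matrix.mul_apply, Fin.sum_univ_four, h2]
  have e4 : mat (x * x * (x * x)) = !![0, 0, 0, 1; 0, 0, 1, 0; 0, 1, 0, 1; 1, 0, 1, 1] := by
    rw [mat_mul, e2]
    ext i j
    fin_cases i <;> fin_cases j <;> simp [Matrix.mul_apply, Fin.sum_univ_four, h2]
  apply mat_injective
  rw [show x ^ 5 = x * x * (x * x) * x by simp only [pow_succ, pow_zero, one_mul, mul_assoc],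
    mat_mul, e4, mat_five he]
  show _ = (1 : Matrix (Fin 4) (Fin 4) F)
  ext i j
  fin_cases i <;> fin_cases j <;> simp [Matrix.mul_apply, Fin.sum_univ_four, h2]

/-- A decomposition of `W * P 0 1 * W`. -/
theorem WPW_one (he : Twist F e) :
    W he * P he 0 1 * W he = P he 1 0 * W he * P he 1 1 := by
  have h0 : (0 : F) ^ e = 0 := zero_pow (Nat.ne_zero_of_lt he.one_lt)
  have h2 : (1 : F) + 1 = 0 := by rw [one_add_one_eq_two]; exact he.two
  apply mat_injective
  rw [mat_mul, mat_mul, mat_mul, mat_mul, mat_P, mat_P, mat_P, mat_W]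
  ext i j
  fin_cases i <;> fin_cases j <;>
    simp [Jmat, Pmat, nrm, h0, h2, Matrix.mul_apply, Fin.sum_univ_four]

/-- The unitriangular group fixes a nonzero vector. -/
theorem exists_fixed (he : Twist F e) [Finite F] {M : Type v} [AddCommGroup M] [Module F M]
    [Finite M] [Nontrivial M] (τ : Sz F e →* Module.End F M) :
    ∃ m : M, m ≠ 0 ∧ ∀ a b, τ (P he a b) m = m := by
  haveI : Fact (Nat.Prime 2) := ⟨Nat.prime_two⟩
  letI : MulAction (uGroup he) M :=
    { smul := fun g m => τ g m
      one_smul := fun m => by show τ 1 m = m; rw [map_one]; rfl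
      mul_smul := fun g h m => by
        show τ ((g : Sz F e) * h) m = τ g (τ h m); rw [map_mul]; rfl }
  have hdvd : 2 ∣ Nat.card M := by
    obtain ⟨m, hm⟩ := exists_ne (0 : M)
    have h2 : addOrderOf m = 2 := addOrderOf_eq_prime (by
      rw [two_nsmul, ← two_smul F m, he.two, zero_smul]) hm
    exact h2 ▸ addOrderOf_dvd_natCard m
  have h0 : (0 : M) ∈ MulAction.fixedPoints (uGroup he) M := fun g => map_zero (τ g)
  obtain ⟨m, hm, hm0⟩ :=
    (uGroup_isPGroup he).exists_fixed_point_of_prime_dvd_card_of_fixed_point M hdvd h0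
  exact ⟨m, Ne.symm hm0, fun a b => hm ⟨_, P_mem_uGroup he a b⟩⟩

variable [Fintype F]

theorem units_pow_e1_bijective (he : Twist F e) : Function.Bijective fun t : Fˣ => t ^ (e + 1) :=
  Finite.injective_iff_bijective.1 fun a b h => by
    have h1 : (a / b) ^ (e + 1) = 1 := by rw [div_pow, h, div_self']
    exact div_eq_one.1 (Units.ext (eq_one_of_pow_e1 he (by
      rw [← Units.val_pow_eq_pow_val, h1, Units.val_one])))

/-- An irreducible module over `F` with fixed-point-free elements of odd order is a twist of the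
natural module. -/
theorem exists_twist (he : Twist F e) {D : Type v} [AddCommGroup D] [Module F D] [Finite D]
    [Nontrivial D] (π : Sz F e →* Module.End F D)
    (hirr : ∀ U : Submodule F D, (∀ g, ∀ y ∈ U, π g y ∈ U) → U = ⊥ ∨ U = ⊤)
    (hfpf : ∀ g : Sz F e, Odd (orderOf g) → g ≠ 1 → ∀ y, π g y = y → y = 0) :
    ∃ (σ : F →+* F) (Φ : D ≃ₗ[F] (Fin 4 → F)),
      ∀ g y, Φ (π g y) = (mat g).map σ *ᵥ Φ y := by
  classical
  haveI : Fact (Nat.Prime 2) := ⟨Nat.prime_two⟩
  haveI : CharP F 2 := CharTwo.of_one_ne_zero_of_two_eq_zero one_ne_zero he.two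
  have hmul : ∀ g h y, π (g * h) y = π g (π h y) := fun g h y => by rw [map_mul]; rfl
  have hone : ∀ y, π 1 y = y := fun y => by rw [map_one]; rfl
  -- an eigenvector
  obtain ⟨v₀, hv₀, hv₀P⟩ := exists_fixed he π
  obtain ⟨g₀, hg₀⟩ := IsCyclic.exists_generator (α := Fˣ)
  set n := Fintype.card F - 1 with hn
  have hunit : ∀ t : Fˣ, t ^ n = 1 := fun t => by
    rw [hn, ← Fintype.card_units]; exact pow_card_eq_one
  have hn1 : g₀ ^ n = 1 := hunit g₀
  set η := π (H e he g₀) with hη
  have hηpow : ∀ i : ℕ, η ^ i = π (H e he (g₀ ^ i)) := fun i => by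
    rw [hη, ← map_pow]
    congr 1
    exact (map_pow (hHom he) g₀ i).symm
  have hHP : ∀ (t : Fˣ) (a b : F), π (P he a b) (π (H e he t) v₀) = π (H e he t) v₀ := by
    intro t a b
    have ht : (t : F) ^ e ≠ 0 ∧ (t : F) ^ (e + 2) ≠ 0 :=
      ⟨pow_ne_zero _ t.ne_zero, pow_ne_zero _ t.ne_zero⟩
    rw [← hmul, show a = (t : F) ^ e * (a / (t : F) ^ e) by field_simp [ht.1],
      show b = (t : F) ^ (e + 2) * (b / (t : F) ^ (e + 2)) by field_simp [ht.2],
      ← H_mul_P, hmul, hv₀P]
  obtain ⟨v, hv0, hvP, χ, hχ⟩ : ∃ v : D, v ≠ 0 ∧ (∀ a b, π (P he a b) v = v) ∧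
      ∃ χ : Fˣ → Fˣ, ∀ t, π (H e he t) v = (χ t : F) • v := by
    let vc : Fˣ → D := fun c => ∑ i ∈ Finset.range n, ((c : F) ^ i) • (η ^ i) v₀
    obtain ⟨c, hc⟩ : ∃ c, vc c ≠ 0 := by
      by_contra hall
      push Not at hall
      have h1 : ∑ c, vc c = 0 := Finset.sum_eq_zero fun c _ => hall c
      rw [Finset.sum_comm] at h1
      simp only [← Finset.sum_smul] at h1
      have h2 : ∀ i ∈ Finset.range n, i ≠ 0 → (∑ c : Fˣ, (c : F) ^ i) • (η ^ i) v₀ = 0 := by
        intro i hi hi0
        have h3 := FiniteField.sum_pow_units F i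
        rw [if_neg fun hd => hi0 (Nat.eq_zero_of_dvd_of_lt hd (by simpa [hn] using Finset.mem_range.1 hi))]
          at h3
        rw [h3, zero_smul]
      rw [Finset.sum_eq_single 0 (fun i hi hi0 => h2 i hi hi0) (fun h => absurd (Finset.mem_range.2
        (by have := Fintype.one_lt_card (α := F); omega)) h)] at h1
      have h3 := FiniteField.sum_pow_units F 0
      rw [if_pos (dvd_zero _)] at h3
      rw [h3, pow_zero, neg_one_smul, neg_eq_zero] at h1
      exact hv₀ h1
    have hstep : η (vc c) = ((c⁻¹ : Fˣ) : F) • vc c := by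
      have hs : ∀ i, η ((η ^ i) v₀) = (η ^ (i + 1)) v₀ := fun i => by rw [pow_succ']; rfl
      have hcn : (c : F) ^ n = 1 := by
        rw [← Units.val_pow_eq_pow_val, hunit c, Units.val_one]
      have hηn : (η ^ n) v₀ = v₀ := by rw [hηpow, hn1, H_one, hone]
      let f : ℕ → D := fun i => ((c : F) ^ i) • (η ^ i) v₀
      have hf : ∑ i ∈ Finset.range n, f (i + 1) = ∑ i ∈ Finset.range n, f i := by
        have h4 := Finset.sum_range_succ' f n
        rw [Finset.sum_range_succ] at h4
        have h5 : f n = f 0 := by simp only [f, hcn, hηn, pow_zero, Module.End.one_apply]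
        rw [h5] at h4
        exact (add_right_cancel h4).symm
      show η (∑ i ∈ Finset.range n, f i) = ((c⁻¹ : Fˣ) : F) • ∑ i ∈ Finset.range n, f i
      conv_rhs => rw [← hf]
      rw [map_sum, Finset.smul_sum]
      refine Finset.sum_congr rfl fun i _ => ?_
      simp only [f, map_smul, hs, smul_smul, pow_succ', ← mul_assoc]
      rw [Units.inv_mul, one_mul]
    refine ⟨vc c, hc, fun a b => ?_, ?_⟩
    · simp only [vc, map_sum, map_smul]
      exact Finset.sum_congr rfl fun i _ => by rw [hηpow, hHP]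
    · choose k hk using fun t => Submonoid.mem_powers_iff _ _ |>.1 (mem_powers_iff_mem_zpowers.2 (hg₀ t))
      refine ⟨fun t => c⁻¹ ^ k t, fun t => ?_⟩
      have hpow : ∀ i, (η ^ i) (vc c) = ((c⁻¹ ^ i : Fˣ) : F) • vc c := fun i => by
        induction i with
        | zero => simp
        | succ i ih =>
          rw [pow_succ', Module.End.mul_apply, ih, map_smul, hstep, smul_smul, pow_succ,
            Units.val_mul]
      rw [← hpow, hηpow, hk]
  have hborel : ∀ a b t, π (P he a b * H e he t) v = (χ t : F) • v := fun a b t => by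
    rw [hmul, hχ, map_smul, hvP]
  set w := π (W he) v with hw
  have hcell : ∀ a b c d t, π (P he a b * W he * P he c d * H e he t) v =
      (χ t : F) • π (P he a b) w := fun a b c d t => by
    rw [mul_assoc (P he a b * W he), hmul, hborel, map_smul, hmul]
  -- the orbit of `v` spans
  set M := Submodule.span F (Set.range fun g => π g v) with hM
  have hMtop : M = ⊤ := by
    refine (hirr M fun g y hy => ?_).resolve_left fun e => hv0 ?_
    · induction hy using Submodule.span_induction with
      | mem y hy =>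
        obtain ⟨h, rfl⟩ := hy
        exact Submodule.subset_span ⟨g * h, hmul g h v⟩
      | zero => rw [map_zero]; exact zero_mem _
      | add x y _ _ hx hy => rw [map_add]; exact add_mem hx hy
      | smul c x _ hx => rw [map_smul]; exact M.smul_mem c hx
    · exact (Submodule.mem_bot F).1 (e ▸ Submodule.subset_span ⟨1, hone v⟩)
  -- five
  have hx5 := five_pow he
  set x := P he 0 1 * W he with hx
  have hx1 : x ≠ 1 := fun e1 => by
    have := congrFun (congrFun (congrArg mat e1) 3) 0
    rw [hx, mat_five he] at this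
    simp [mat] at this
  have hxodd : Odd (orderOf x) := Odd.of_dvd_nat (by decide) (orderOf_dvd_of_pow_eq_one hx5)
  have hxi : x⁻¹ = W he * P he 0 1 := by
    rw [hx, _root_.mul_inv_rev, W_inv, P_inv]
    congr 2; simp [zero_pow (Nat.ne_zero_of_lt he.one_lt)]
  have hrel : v + π (P he 0 1 * W he) v + π (P he 0 1 * W he * (P he 0 1 * W he)) v
      + π (W he * P he 0 1 * (W he * P he 0 1)) v + π (W he * P he 0 1) v = 0 := by
    have h4 : x⁻¹ = x ^ 4 := inv_eq_of_mul_eq_one_right (by rw [← pow_succ', hx5])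
    rw [← hxi, ← hx, h4, show x ^ 4 * x ^ 4 = x ^ 3 by
      rw [← pow_add, show (4 + 4 : ℕ) = 5 + 3 from rfl, pow_add, hx5, one_mul]]
    refine hfpf x hxodd hx1 _ ?_
    simp only [map_add, ← hmul, ← pow_succ', ← pow_two]
    rw [hx5, hone]
    abel
  have hrel' : v + π (P he 0 1) w + π (P he 1 1) w + π (P he 1 0) w + w = 0 := by
    have e1 : π (W he * P he 0 1 * (W he * P he 0 1)) v = π (P he 1 0) w := by
      rw [show W he * P he 0 1 * (W he * P he 0 1) = (W he * P he 0 1 * W he) * P he 0 1 by group,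
        hmul, hvP, WPW_one he, hmul, hvP, hmul]
    have e2 : π (P he 0 1 * W he * (P he 0 1 * W he)) v = π (P he 1 1) w := by
      rw [show P he 0 1 * W he * (P he 0 1 * W he) = P he 0 1 * (W he * P he 0 1 * W he) by group,
        WPW_one he, ← mul_assoc, ← mul_assoc, hmul, hvP, P_mul, hmul]
      congr 2
      simp [zero_pow (Nat.ne_zero_of_lt he.one_lt)]
    rw [e1, e2, hmul (P he 0 1), hmul (W he), hvP] at hrel
    exact hrel
  -- a functional fixed by the unitriangular group
  let τ : Sz F e →* Module.End F (Module.Dual F D) :=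
    { toFun := fun g => (π g⁻¹).dualMap
      map_one' := by ext f y; simp
      map_mul' := fun g h => by ext f y; simp [hmul] }
  haveI : Finite (Module.Dual F D) := Finite.of_injective _ DFunLike.coe_injective
  haveI : FiniteDimensional F D := Module.Finite.of_finite
  obtain ⟨ψ₀, hψ₀, hψ₀P⟩ := exists_fixed he τ
  have hψP : ∀ a b y, ψ₀ (π (P he a b) y) = ψ₀ y := fun a b y => by
    have := LinearMap.congr_fun (hψ₀P a (b + a ^ e * a)) y
    change ψ₀ (π (P he a (b + a ^ e * a))⁻¹ y) = ψ₀ y at this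
    rwa [P_inv, show b + a ^ e * a + a ^ e * a = b by
      rw [add_assoc, CharTwo.add_self_eq_zero, add_zero]] at this
  have h2D : ∀ y : F, y + y = 0 := CharTwo.add_self_eq_zero
  have hψv : ψ₀ v = 0 := by
    have h1 := congrArg ψ₀ hrel'
    simp only [map_add, hψP, map_zero] at h1
    linear_combination h1 - 2 * ψ₀ w * he.two
  have hψw : ψ₀ w ≠ 0 := fun h0 => hψ₀ (LinearMap.ext fun y => by
    have hy : y ∈ M := hMtop ▸ Submodule.mem_top
    induction hy using Submodule.span_induction with
    | mem y hy =>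
      obtain ⟨g, rfl⟩ := hy
      show ψ₀ (π g v) = 0
      by_cases hg : g ∈ borel F e
      · obtain ⟨a, b, t, rfl⟩ := exists_borel_eq he g hg
        rw [hborel, map_smul, hψv, smul_zero]
      · obtain ⟨a, b, c, d, t, rfl⟩ := exists_bruhat' he g hg
        rw [hcell, map_smul, hψP, h0, smul_zero]
    | zero => simp
    | add x y _ _ hx hy => rw [map_add, hx, hy]; simp
    | smul c x _ hx => rw [map_smul, hx]; simp)
  set ψ : Module.Dual F D := (ψ₀ w)⁻¹ • ψ₀ with hψ
  -- `ψ (g v)` is a function of the entry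
  obtain ⟨root, hroot⟩ : ∃ root : Fˣ → Fˣ, ∀ t, root (t ^ (e + 1)) = t :=
    ⟨(Equiv.ofBijective _ (units_pow_e1_bijective he)).symm, fun t =>
      (Equiv.ofBijective _ (units_pow_e1_bijective he)).symm_apply_apply t⟩
  let ξ : F → F := fun s => if h : s = 0 then 0 else (χ (root (Units.mk0 s h)) : F)
  have hval : ∀ g, ψ (π g v) = ξ (mat g 3 0) := by
    intro g
    by_cases hg : g ∈ borel F e
    · rw [show ξ (mat g 3 0) = 0 by simp [ξ, (mem_borel.1 hg).2.2]]
      obtain ⟨a, b, t, rfl⟩ := exists_borel_eq he g hg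
      rw [hborel, map_smul, hψ, LinearMap.smul_apply, hψv, smul_zero, smul_zero]
    · obtain ⟨a, b, c, d, t, rfl⟩ := exists_bruhat' he g hg
      rw [hcell, map_smul, hψ, LinearMap.smul_apply, hψP, entry_bruhat]
      have ht : (t : F) ^ (e + 1) ≠ 0 := pow_ne_zero _ t.ne_zero
      simp only [ξ, dif_neg ht, smul_eq_mul, inv_mul_cancel₀ hψw, mul_one]
      rw [show Units.mk0 ((t : F) ^ (e + 1)) ht = t ^ (e + 1) from Units.ext (by simp), hroot]
  have hξmul : ∀ r s, ξ (r * s) = ξ r * ξ s := by
    intro r s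
    rcases eq_or_ne r 0 with rfl | hr
    · simp [ξ]
    rcases eq_or_ne s 0 with rfl | hs
    · simp [ξ]
    obtain ⟨t, ht⟩ := (units_pow_e1_bijective he).2 (Units.mk0 r hr)
    obtain ⟨t', ht'⟩ := (units_pow_e1_bijective he).2 (Units.mk0 s hs)
    have hχm : (χ (t * t') : F) = (χ t : F) * (χ t' : F) := by
      refine smul_left_injective F hv0 ?_
      show (χ (t * t') : F) • v = ((χ t : F) * (χ t' : F)) • v
      rw [← hχ, ← H_mul, hmul, hχ, map_smul, hχ, smul_smul, mul_comm]
    simp only [ξ, dif_neg hr, dif_neg hs, dif_neg (mul_ne_zero hr hs)]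
    rw [show Units.mk0 (r * s) (mul_ne_zero hr hs) = Units.mk0 r hr * Units.mk0 s hs from
      Units.ext rfl, ← ht, ← ht', ← mul_pow, hroot, hroot, hroot, hχm]
  have hξ1 : ξ 1 = 1 := by
    have h1 := hval (W he)
    rw [← hw, hψ, LinearMap.smul_apply, smul_eq_mul, inv_mul_cancel₀ hψw] at h1
    simpa [mat_W, Jmat] using h1.symm
  have hstep : ∀ b, ξ ((b + 1) ^ e) = ξ (b ^ e) + 1 := by
    intro b
    have h1 := congrArg (fun y => ψ (π (W he * P he 0 b) y)) hrel'
    simp only [map_add, map_zero, hw, ← hmul] at h1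
    rw [hval, hval, hval, hval, hval] at h1
    have e0 : mat (W he * P he 0 b) 3 0 = 1 := by
      simp [mat_mul, mat_P, mat_W, Jmat, Pmat, Matrix.mul_apply, Fin.sum_univ_four]
    have ek : ∀ a c, mat (W he * P he 0 b * (P he a c * W he)) 3 0 = nrm e a (b + c) := fun a c => by
      rw [← entry_WPW he, show W he * P he 0 b * (P he a c * W he) =
        W he * (P he 0 b * P he a c) * W he by group, P_mul]
      simp [zero_pow (Nat.ne_zero_of_lt he.one_lt)]
    have ew : mat (W he * P he 0 b * W he) 3 0 = nrm e 0 b := entry_WPW he 0 b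
    rw [e0, ek, ek, ek, ew, hξ1] at h1
    have h11 : nrm e (1 : F) (b + 1) = nrm e 1 (b + 0) := by
      simp only [nrm, one_pow, one_mul, add_zero, he.add_pow]
      linear_combination (1 : F) * he.two
    have h01 : nrm e (0 : F) (b + 1) = (b + 1) ^ e := by
      simp [nrm, zero_pow (Nat.ne_zero_of_lt he.one_lt)]
    have h00 : nrm e (0 : F) b = b ^ e := by
      simp [nrm, zero_pow (Nat.ne_zero_of_lt he.one_lt)]
    rw [h11, h01, h00] at h1
    linear_combination h1 - (1 + ξ (b ^ e) + ξ (nrm e 1 (b + 0))) * he.two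
  have hξadd : ∀ r s, ξ (r + s) = ξ r + ξ s := by
    have hsurj : ∀ r : F, ∃ x : F, x ^ e = r := fun r =>
      (Finite.injective_iff_surjective.1 (show Function.Injective fun x : F => x ^ e from
        (theta he).injective)) r
    intro r s
    obtain ⟨r, rfl⟩ := hsurj r
    obtain ⟨s, rfl⟩ := hsurj s
    rcases eq_or_ne s 0 with rfl | hs
    · simp [ξ, zero_pow (Nat.ne_zero_of_lt he.one_lt)]
    have h1 := hstep (r / s)
    calc ξ (r ^ e + s ^ e) = ξ ((r / s + 1) ^ e * s ^ e) := by
          rw [← mul_pow, add_mul, div_mul_cancel₀ _ hs, one_mul, he.add_pow]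
      _ = ξ ((r / s) ^ e * s ^ e) + ξ (s ^ e) := by rw [hξmul, h1, add_mul, one_mul, hξmul]
      _ = _ := by rw [← mul_pow, div_mul_cancel₀ _ hs]
  let σ : F →+* F :=
    { toFun := ξ
      map_one' := hξ1
      map_mul' := hξmul
      map_zero' := by simp [ξ]
      map_add' := hξadd }
  have hval' : ∀ g, ψ (π g v) = σ (mat g 3 0) := hval
  -- the coordinates
  let L : Sz F e → D →ₗ[F] F := fun g => ψ ∘ₗ π g
  let Φ₀ : D →ₗ[F] (Fin 4 → F) := LinearMap.pi
    ![L (W he), L (W he * P he 1 0) + L (W he * P he 0 1), L (W he * P he 0 1) + L (W he) + L 1, L 1]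
  have hΦv : ∀ g, Φ₀ (π g v) = fun i => σ (mat g i 0) := by
    intro g
    have hL : ∀ h, L h (π g v) = σ (mat (h * g) 3 0) := fun h => by
      show ψ (π h (π g v)) = _
      rw [← hmul, hval']
    funext i
    have h0 : (0 : F) ^ e = 0 := zero_pow (Nat.ne_zero_of_lt he.one_lt)
    fin_cases i <;>
      simp only [Φ₀, LinearMap.pi_apply, LinearMap.add_apply, Matrix.cons_val_zero, Matrix.cons_val_one,
        Matrix.cons_val, Fin.isValue, Fin.zero_eta, Fin.mk_one, Fin.reduceFinMk, hL, ← map_add] <;>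
      congr 1 <;>
      simp [mat_mul, mat_P, mat_W, mat, Jmat, Pmat, nrm, h0, Matrix.mul_apply, Fin.sum_univ_four] <;>
      grind [he.two]
  have hΦ : ∀ h y, Φ₀ (π h y) = (mat h).map σ *ᵥ Φ₀ y := by
    intro h y
    have hy : y ∈ M := hMtop ▸ Submodule.mem_top
    induction hy using Submodule.span_induction with
    | mem y hy =>
      obtain ⟨g, rfl⟩ := hy
      show Φ₀ (π h (π g v)) = (mat h).map σ *ᵥ Φ₀ (π g v)
      rw [← hmul, hΦv, hΦv]
      funext i
      simp only [mat_mul, Matrix.mul_apply, Matrix.mulVec, dotProduct, Matrix.map_apply, map_sum, map_mul]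
    | zero => simp
    | add x y _ _ hx hy => rw [map_add, map_add, map_add, hx, hy, Matrix.mulVec_add]
    | smul c x _ hx => rw [map_smul, map_smul, map_smul, hx, Matrix.mulVec_smul]
  have hinj : Function.Injective Φ₀ := by
    rw [← LinearMap.ker_eq_bot]
    refine (hirr _ fun g y hy => ?_).resolve_right fun e => ?_
    · rw [LinearMap.mem_ker] at hy ⊢
      rw [hΦ, hy, Matrix.mulVec_zero]
    · have h1 : Φ₀ (π 1 v) = 0 := LinearMap.mem_ker.1 (e ▸ Submodule.mem_top)
      rw [hΦv] at h1
      have := congrFun h1 0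
      simp [mat] at this
  have hsurj : Function.Surjective Φ₀ := fun c => by
    have h0 : (0 : F) ^ e = 0 := zero_pow (Nat.ne_zero_of_lt he.one_lt)
    refine ⟨c 0 • π 1 v + c 3 • π (W he) v +
      c 1 • (π 1 v + π (W he) v + π (P he 0 1 * W he) v) +
      c 2 • (π 1 v + π (W he) v + π (P he 1 0 * W he) v), ?_⟩
    simp only [map_add, map_smul, hΦv]
    funext i
    fin_cases i <;>
      simp [mat_mul, mat_P, mat_W, mat, Jmat, Pmat, nrm, h0, Matrix.mul_apply, Fin.sum_univ_four,
        CharTwo.add_self_eq_zero]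
  exact ⟨σ, LinearEquiv.ofBijective Φ₀ ⟨hinj, hsurj⟩, hΦ⟩

end CfsgLib.Recognition.CNSuzuki
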