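import Cfsg.Agent.Lib.KnownB.SuzukiSylow

/-!
# Coordinates on the natural module of a Suzuki group
-/

set_option autoImplicit false

namespace CfsgLib.Recognition.CNSuzuki

open Matrix Cfsg.Lie CfsgLib.KnownB.SzElem CfsgLib.KnownB.Suzuki

universe u

variable {F : Type u} [Field F] {e : ℕ}

/-- The natural module. -/
abbrev Nat4 (F : Type u) : Type u := Fin 4 → F

/-- The first coordinate line. -/
def E0 (x : F) : Nat4 F := ![x, 0, 0, 0]

/-- The second coordinate line. -/
def E1 (x : F) : Nat4 F := ![0, x, 0, 0]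

/-- The third coordinate line. -/
def E2 (x : F) : Nat4 F := ![0, 0, x, 0]

/-- The last coordinate line. -/
def E3 (x : F) : Nat4 F := ![0, 0, 0, x]

theorem eq_sum (v : Nat4 F) : v = E0 (v 0) + E1 (v 1) + E2 (v 2) + E3 (v 3) := by
  funext i; fin_cases i <;> simp [E0, E1, E2, E3]

theorem E0_add (x y : F) : E0 (x + y) = E0 x + E0 y := by
  funext i; fin_cases i <;> simp [E0]

theorem E1_add (x y : F) : E1 (x + y) = E1 x + E1 y := by
  funext i; fin_cases i <;> simp [E1]

theorem E2_add (x y : F) : E2 (x + y) = E2 x + E2 y := by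
  funext i; fin_cases i <;> simp [E2]

theorem E3_add (x y : F) : E3 (x + y) = E3 x + E3 y := by
  funext i; fin_cases i <;> simp [E3]

@[simp] theorem E0_zero : E0 (0 : F) = 0 := by funext i; fin_cases i <;> simp [E0]

@[simp] theorem E1_zero : E1 (0 : F) = 0 := by funext i; fin_cases i <;> simp [E1]

@[simp] theorem E2_zero : E2 (0 : F) = 0 := by funext i; fin_cases i <;> simp [E2]

@[simp] theorem E3_zero : E3 (0 : F) = 0 := by funext i; fin_cases i <;> simp [E3]

/-- `P 0 b - 1` on the natural module. -/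
def shift (e : ℕ) (b : F) (v : Nat4 F) : Nat4 F := ![b * v 2 + b ^ e * v 3, b * v 3, 0, 0]

@[simp] theorem E0_at0 (x : F) : E0 x 0 = x := by simp [E0]

@[simp] theorem E0_at1 (x : F) : E0 x 1 = 0 := by simp [E0]

@[simp] theorem E0_at2 (x : F) : E0 x 2 = 0 := by simp [E0]

@[simp] theorem E0_at3 (x : F) : E0 x 3 = 0 := by simp [E0]

@[simp] theorem E1_at0 (x : F) : E1 x 0 = 0 := by simp [E1]

@[simp] theorem E1_at1 (x : F) : E1 x 1 = x := by simp [E1]

@[simp] theorem E1_at2 (x : F) : E1 x 2 = 0 := by simp [E1]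

@[simp] theorem E1_at3 (x : F) : E1 x 3 = 0 := by simp [E1]

@[simp] theorem E2_at0 (x : F) : E2 x 0 = 0 := by simp [E2]

@[simp] theorem E2_at1 (x : F) : E2 x 1 = 0 := by simp [E2]

@[simp] theorem E2_at2 (x : F) : E2 x 2 = x := by simp [E2]

@[simp] theorem E2_at3 (x : F) : E2 x 3 = 0 := by simp [E2]

@[simp] theorem E3_at0 (x : F) : E3 x 0 = 0 := by simp [E3]

@[simp] theorem E3_at1 (x : F) : E3 x 1 = 0 := by simp [E3]

@[simp] theorem E3_at2 (x : F) : E3 x 2 = 0 := by simp [E3]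

@[simp] theorem E3_at3 (x : F) : E3 x 3 = x := by simp [E3]

@[simp] theorem shift_at0 (b : F) (v : Nat4 F) : shift e b v 0 = b * v 2 + b ^ e * v 3 := by simp [shift]

@[simp] theorem shift_at1 (b : F) (v : Nat4 F) : shift e b v 1 = b * v 3 := by simp [shift]

@[simp] theorem shift_at2 (b : F) (v : Nat4 F) : shift e b v 2 = 0 := by simp [shift]

@[simp] theorem shift_at3 (b : F) (v : Nat4 F) : shift e b v 3 = 0 := by simp [shift]

theorem mulVec_P_center (he : Twist F e) (b : F) (v : Nat4 F) :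
    mat (P he 0 b) *ᵥ v = v + shift e b v := by
  have h0 : (0 : F) ^ e = 0 := zero_pow (Nat.ne_zero_of_lt he.one_lt)
  rw [mat_P]
  funext i
  fin_cases i <;> simp [Pmat, nrm, h0, shift, Matrix.mulVec, dotProduct, Fin.sum_univ_four] <;> ring

theorem shift_eq (he : Twist F e) (b : F) (v : Nat4 F) :
    shift e b v = mat (P he 0 b) *ᵥ v - v := by
  rw [mulVec_P_center, add_sub_cancel_left]

theorem shift_E2 (b x : F) : shift e b (E2 x) = E0 (b * x) := by
  funext i; fin_cases i <;> simp [shift, E0, E2]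

theorem shift_E3 (b x : F) : shift e b (E3 x) = E0 (b ^ e * x) + E1 (b * x) := by
  funext i; fin_cases i <;> simp [shift, E0, E1, E3]

theorem mulVec_H (he : Twist F e) (t : Fˣ) (v : Nat4 F) :
    mat (H e he t) *ᵥ v =
      ![(t : F) ^ (e + 1) * v 0, (t : F) * v 1, (t : F)⁻¹ * v 2, ((t : F) ^ (e + 1))⁻¹ * v 3] := by
  funext i
  fin_cases i <;>
    simp [mat, coe_H, Hmat, Matrix.mulVec_diagonal]

theorem mulVec_H_E0 (he : Twist F e) (t : Fˣ) (x : F) :
    mat (H e he t) *ᵥ E0 x = E0 ((t : F) ^ (e + 1) * x) := by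
  rw [mulVec_H]; funext i; fin_cases i <;> simp [E0]

theorem mulVec_H_E1 (he : Twist F e) (t : Fˣ) (x : F) :
    mat (H e he t) *ᵥ E1 x = E1 ((t : F) * x) := by
  rw [mulVec_H]; funext i; fin_cases i <;> simp [E1]

theorem mulVec_H_E3 (he : Twist F e) (t : Fˣ) (x : F) :
    mat (H e he t) *ᵥ E3 x = E3 (((t : F) ^ (e + 1))⁻¹ * x) := by
  rw [mulVec_H]; funext i; fin_cases i <;> simp [E3]

theorem mulVec_W (he : Twist F e) (v : Nat4 F) : mat (W he) *ᵥ v = ![v 3, v 2, v 1, v 0] := by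
  rw [mat_W]
  funext i
  fin_cases i <;> simp [Jmat, Matrix.mulVec, dotProduct, Fin.sum_univ_four]

theorem mulVec_u_low (he : Twist F e) (a x y : F) :
    mat (P he a 0) *ᵥ (E0 x + E1 y) = E0 (x + a * y) + E1 y := by
  rw [mat_P]
  funext i
  fin_cases i <;> simp [Pmat, E0, E1, Matrix.mulVec, dotProduct, Fin.sum_univ_four]

theorem mulVec_u_E3 (he : Twist F e) (a x : F) :
    mat (P he a 0) *ᵥ E3 x = E3 x + E2 (a * x) + E0 (a ^ (e + 2) * x) := by
  have h0 : (0 : F) ^ e = 0 := zero_pow (Nat.ne_zero_of_lt he.one_lt)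
  rw [mat_P]
  funext i
  fin_cases i <;>
    simp [Pmat, nrm, h0, E0, E2, E3, Matrix.mulVec, dotProduct, Fin.sum_univ_four]

end CfsgLib.Recognition.CNSuzuki
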