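import Cfsg.Agent.Lib.Recognition.CNSuzuki.Natural
import Cfsg.Agent.Lib.Recognition.CNSuzuki.NatCoord
import Mathlib.GroupTheory.QuotientGroup.Basic

/-!
# Invariant subgroups of a fixed-point-free module, and the irreducible modules of a Suzuki group

An irreducible finite `F₂`-module of `Sz F e` with fixed-point-free elements of odd order is the
natural module, viewed over the prime field.
-/

set_option autoImplicit false
set_option linter.unusedSectionVars false

namespace CfsgLib.Recognition.CNSuzuki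

open Matrix Cfsg.Lie CfsgLib.KnownB.SzElem CfsgLib.KnownB.Suzuki

universe u v

section General

variable {G : Type*} [Group G] {X : Type v} [AddCommGroup X] (ρ : G →* AddMonoid.End X)

/-- An invariant subgroup. -/
def Inv (V : AddSubgroup X) : Prop := ∀ g : G, ∀ x ∈ V, ρ g x ∈ V

theorem rho_comp (g h : G) (x : X) : ρ (g * h) x = ρ g (ρ h x) := by rw [map_mul]; rfl

theorem rho_one (x : X) : ρ 1 x = x := by rw [map_one]; rfl

theorem inv_bot : Inv ρ ⊥ := fun g x hx => by
  rw [AddSubgroup.mem_bot] at hx ⊢; rw [hx, map_zero]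

theorem inv_top : Inv ρ ⊤ := fun _ _ _ => AddSubgroup.mem_top _

/-- The action on an invariant subgroup. -/
def resRep (V : AddSubgroup X) (hV : Inv ρ V) : G →* AddMonoid.End V where
  toFun g := ((ρ g : X →+ X).comp V.subtype).codRestrict V fun x => hV g x x.2
  map_one' := AddMonoidHom.ext fun x => Subtype.ext (rho_one ρ x)
  map_mul' g h := AddMonoidHom.ext fun x => Subtype.ext (rho_comp ρ g h x)

@[simp] theorem coe_resRep (V : AddSubgroup X) (hV : Inv ρ V) (g : G) (x : V) :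
    (resRep ρ V hV g x : X) = ρ g x := rfl

/-- The action on the quotient by an invariant subgroup. -/
def quoRep (V : AddSubgroup X) (hV : Inv ρ V) : G →* AddMonoid.End (X ⧸ V) where
  toFun g := QuotientAddGroup.map V V (ρ g : X →+ X) fun x hx => hV g x hx
  map_one' := AddMonoidHom.ext fun x => by
    induction x using QuotientAddGroup.induction_on with
    | _ x => exact congrArg _ (rho_one ρ x)
  map_mul' g h := AddMonoidHom.ext fun x => by
    induction x using QuotientAddGroup.induction_on with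
    | _ x => exact congrArg _ (rho_comp ρ g h x)

@[simp] theorem quoRep_mk (V : AddSubgroup X) (hV : Inv ρ V) (g : G) (x : X) :
    quoRep ρ V hV g (x : X ⧸ V) = ((ρ g x : X) : X ⧸ V) := rfl

theorem oddFpf_res (V : AddSubgroup X) (hV : Inv ρ V) (h : OddFpf ρ) :
    OddFpf (resRep ρ V hV) := fun g hg hg1 x hx =>
  Subtype.ext (h g hg hg1 x (congrArg Subtype.val hx))

theorem oddFpf_quo (V : AddSubgroup X) (hV : Inv ρ V) (h4 : ∀ x : X, (4 : ℕ) • x = 0)
    (h : OddFpf ρ) : OddFpf (quoRep ρ V hV) := by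
  intro g hg hg1 x hx
  induction x using QuotientAddGroup.induction_on with
  | _ x =>
    set n := orderOf g with hn
    have hfix : ∀ i : ℕ, ((ρ (g ^ i) x : X) : X ⧸ V) = x := by
      intro i
      induction i with
      | zero => rw [pow_zero, rho_one]
      | succ i ih => rw [pow_succ', rho_comp, ← quoRep_mk ρ V hV, ih]; exact hx
    have hS : ∑ i ∈ Finset.range n, ρ (g ^ i) x = 0 := by
      refine h g hg hg1 _ ?_
      rw [map_sum]
      simp only [← rho_comp, ← pow_succ']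
      have h1 := Finset.sum_range_succ' (fun i => ρ (g ^ i) x) n
      rw [Finset.sum_range_succ, pow_orderOf_eq_one, pow_zero] at h1
      exact (add_right_cancel h1).symm
    have h1 : n • (x : X ⧸ V) = 0 := by
      have h2 := congrArg (QuotientAddGroup.mk' V) hS
      rw [map_sum, map_zero] at h2
      simp only [QuotientAddGroup.mk'_apply, hfix, Finset.sum_const, Finset.card_range] at h2
      exact h2
    have h2 : (4 : ℕ) • (x : X ⧸ V) = 0 := by
      rw [← QuotientAddGroup.mk_nsmul, h4, QuotientAddGroup.mk_zero]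
    have hd : addOrderOf (x : X ⧸ V) ∣ Nat.gcd n 4 :=
      Nat.dvd_gcd (addOrderOf_dvd_of_nsmul_eq_zero h1) (addOrderOf_dvd_of_nsmul_eq_zero h2)
    have hc : Nat.gcd n 4 = 1 := by
      have h3 : Nat.Coprime n (2 ^ 2) := Nat.Coprime.pow_right 2 (Nat.coprime_two_right.2 hg)
      exact h3
    rw [hc, Nat.dvd_one, AddMonoid.addOrderOf_eq_one_iff] at hd
    exact hd

theorem inv_comap_quo (V : AddSubgroup X) (hV : Inv ρ V) {U : AddSubgroup (X ⧸ V)}
    (hU : Inv (quoRep ρ V hV) U) : Inv ρ (U.comap (QuotientAddGroup.mk' V)) :=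
  fun g x hx => hU g _ hx

theorem inv_map_res (V : AddSubgroup X) (hV : Inv ρ V) {U : AddSubgroup V}
    (hU : Inv (resRep ρ V hV) U) : Inv ρ (U.map V.subtype) := by
  rintro g _ ⟨x, hx, rfl⟩
  exact ⟨_, hU g x hx, rfl⟩

/-- No invariant subgroups but the trivial ones. -/
def Irred : Prop := ∀ V : AddSubgroup X, Inv ρ V → V = ⊥ ∨ V = ⊤

variable [Finite X]

theorem exists_min [Nontrivial X] :
    ∃ V : AddSubgroup X, ∃ hV : Inv ρ V, V ≠ ⊥ ∧ Irred (resRep ρ V hV) := by
  obtain ⟨V, hm⟩ := exists_minimal_of_wellFoundedLT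
    (fun V : AddSubgroup X => Inv ρ V ∧ V ≠ ⊥) ⟨⊤, inv_top ρ, top_ne_bot⟩
  refine ⟨V, hm.1.1, hm.1.2, fun U hU => or_iff_not_imp_left.2 fun hU0 => ?_⟩
  have hle : U.map V.subtype ≤ V := AddSubgroup.map_subtype_le U
  have h1 : Inv ρ (U.map V.subtype) ∧ U.map V.subtype ≠ ⊥ :=
    ⟨inv_map_res ρ V hm.1.1 hU, fun h => hU0
      ((AddSubgroup.map_eq_bot_iff_of_injective _ V.subtype_injective).1 h)⟩
  refine eq_top_iff.2 fun x _ => ?_
  obtain ⟨y, hy, hxy⟩ := hm.2 h1 hle x.2
  rwa [← Subtype.ext hxy]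

theorem exists_max (V : AddSubgroup X) (hV : Inv ρ V) (htop : V ≠ ⊤) :
    ∃ K : AddSubgroup X, ∃ hK : Inv ρ K, V ≤ K ∧ K ≠ ⊤ ∧ Irred (quoRep ρ K hK) := by
  obtain ⟨K, hm⟩ := exists_maximal_of_wellFoundedGT
    (fun K : AddSubgroup X => Inv ρ K ∧ V ≤ K ∧ K ≠ ⊤) ⟨V, hV, le_rfl, htop⟩
  refine ⟨K, hm.1.1, hm.1.2.1, hm.1.2.2, fun U hU => or_iff_not_imp_right.2 fun hU1 => ?_⟩
  set U' := U.comap (QuotientAddGroup.mk' K) with hU'
  have hle : K ≤ U' := fun x hx => by
    show (x : X ⧸ K) ∈ U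
    rw [(QuotientAddGroup.eq_zero_iff x).2 hx]; exact U.zero_mem
  have hne : U' ≠ ⊤ := fun h => hU1 (eq_top_iff.2 fun y _ => by
    induction y using QuotientAddGroup.induction_on with
    | _ y =>
      have : y ∈ U' := by rw [h]; exact AddSubgroup.mem_top y
      exact this)
  have heq : U' ≤ K := hm.2 ⟨inv_comap_quo ρ K hm.1.1 hU, hm.1.2.1.trans hle, hne⟩ hle
  refine eq_bot_iff.2 fun y hy => ?_
  induction y using QuotientAddGroup.induction_on with
  | _ y => exact AddSubgroup.mem_bot.2 ((QuotientAddGroup.eq_zero_iff y).2 (heq hy))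

theorem card_lt_of_ne_top {V : AddSubgroup X} (h : V ≠ ⊤) : Nat.card V < Nat.card X :=
  lt_of_le_of_ne (Nat.card_le_card_of_injective _ V.subtype_injective) fun h1 => h (V.eq_top_of_card_eq h1)

theorem card_quo_lt {V : AddSubgroup X} (h : V ≠ ⊥) : Nat.card (X ⧸ V) < Nat.card X := by
  have h1 := V.card_eq_card_quotient_mul_card_addSubgroup
  have h2 : 1 < Nat.card V := AddSubgroup.one_lt_card_iff_ne_bot V |>.2 h
  rw [h1]
  exact lt_mul_of_one_lt_right Nat.card_pos h2

end General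

variable {F : Type u} [Field F] [Fintype F] {e : ℕ}

/-- The inverse transpose. -/
theorem mat_inv_transpose (he : Twist F e) (g : Sz F e) :
    (mat g⁻¹)ᵀ = Jmat * mat g * Jmat := by
  have h1 : (mat g)ᵀ * Jmat * mat g = Jmat := transpose_mul_J ((mem_Sz_iff he).1 g.2).1
  have h2 : (mat g⁻¹)ᵀ * (mat g)ᵀ = 1 := by
    rw [← Matrix.transpose_mul, ← mat_mul, mul_inv_cancel, show mat (1 : Sz F e) = 1 from rfl,
      Matrix.transpose_one]
  have h3 := congrArg (fun Z => (mat g⁻¹)ᵀ * Z * Jmat) h1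
  simp only [Matrix.mul_assoc, Jmat_sq, Matrix.mul_one] at h3
  rw [← Matrix.mul_assoc (mat g⁻¹)ᵀ, h2, Matrix.one_mul] at h3
  rw [Matrix.mul_assoc]
  exact h3.symm

/-- The natural module has no proper invariant subgroup. -/
theorem nat_irred (he : Twist F e) (A : AddSubgroup (Nat4 F))
    (hA : ∀ g : Sz F e, ∀ v ∈ A, mat g *ᵥ v ∈ A) (hA0 : A ≠ ⊥) : A = ⊤ := by
  haveI : CharP F 2 := CharTwo.of_one_ne_zero_of_two_eq_zero one_ne_zero he.two
  have hsh : ∀ b, ∀ v ∈ A, shift e b v ∈ A := fun b v hv => by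
    rw [shift_eq he]; exact A.sub_mem (hA _ _ hv) hv
  have hu : ∀ x y, E0 x + E1 y ∈ A → E0 y ∈ A := fun x y h => by
    have h1 := A.sub_mem (hA (P he 1 0) _ h) h
    rwa [mulVec_u_low, one_mul, E0_add,
      show E0 x + E0 y + E1 y - (E0 x + E1 y) = E0 y by abel] at h1
  obtain ⟨x, hx, hxA⟩ : ∃ x : F, x ≠ 0 ∧ E0 x ∈ A := by
    obtain ⟨v, hv, hv0⟩ := (A.bot_or_exists_ne_zero).resolve_left hA0
    rcases eq_or_ne (v 3) 0 with h3 | h3
    · rcases eq_or_ne (v 2) 0 with h2 | h2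
      · have hlow : v = E0 (v 0) + E1 (v 1) := by
          conv_lhs => rw [eq_sum v, h2, h3, E2_zero, E3_zero, add_zero, add_zero]
        rw [hlow] at hv
        rcases eq_or_ne (v 1) 0 with h1 | h1
        · refine ⟨v 0, fun h0 => hv0 ?_, by simpa [h1] using hv⟩
          rw [hlow, h0, h1, E0_zero, E1_zero, add_zero]
        · exact ⟨v 1, h1, hu _ _ hv⟩
      · refine ⟨v 2, h2, ?_⟩
        have h1 := hsh 1 v hv
        rwa [show shift e 1 v = E0 (v 2) by
          funext i; fin_cases i <;> simp [shift, E0, h3]] at h1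
    · refine ⟨v 3, h3, hu (v 2 + v 3) _ ?_⟩
      have h1 := hsh 1 v hv
      rwa [show shift e 1 v = E0 (v 2 + v 3) + E1 (v 3) by
        funext i; fin_cases i <;> simp [shift, E0, E1]] at h1
  have h0 : ∀ y, E0 y ∈ A := fun y => by
    rcases eq_or_ne y 0 with rfl | hy
    · rw [E0_zero]; exact A.zero_mem
    obtain ⟨t, ht⟩ := (units_pow_e1_bijective he).2 (Units.mk0 (y / x) (div_ne_zero hy hx))
    have ht' : (t : F) ^ (e + 1) = y / x := by simpa using congrArg Units.val ht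
    have h1 := hA (H e he t) _ hxA
    rwa [mulVec_H_E0, ht', div_mul_cancel₀ _ hx] at h1
  have hW3 : ∀ y, E3 y ∈ A := fun y => by
    have h1 := hA (W he) _ (h0 y)
    rwa [mulVec_W, show (![E0 y 3, E0 y 2, E0 y 1, E0 y 0] : Nat4 F) = E3 y by
      funext i; fin_cases i <;> simp [E0, E3]] at h1
  have h2 : ∀ y, E2 y ∈ A := fun y => by
    have h1 := A.sub_mem (A.sub_mem (hA (P he 1 0) _ (hW3 y)) (hW3 y)) (h0 (1 ^ (e + 2) * y))
    rwa [mulVec_u_E3, one_mul,
      show E3 y + E2 y + E0 (1 ^ (e + 2) * y) - E3 y - E0 (1 ^ (e + 2) * y) = E2 y by abel] at h1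
  have h1 : ∀ y, E1 y ∈ A := fun y => by
    have h1 := hA (W he) _ (h2 y)
    rwa [mulVec_W, show (![E2 y 3, E2 y 2, E2 y 1, E2 y 0] : Nat4 F) = E1 y by
      funext i; fin_cases i <;> simp [E1, E2]] at h1
  exact eq_top_iff.2 fun v _ => by
    rw [eq_sum v]
    exact A.add_mem (A.add_mem (A.add_mem (h0 _) (h1 _)) (h2 _)) (hW3 _)

/-- An irreducible module is natural. -/
theorem natural_of_irred (he : Twist F e) {V : Type v} [AddCommGroup V] [Finite V] [Nontrivial V]
    (ρ : Sz F e →* AddMonoid.End V) (h2 : ∀ x : V, (2 : ℕ) • x = 0) (hirr : Irred ρ)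
    (hfpf : OddFpf ρ) :
    ∃ ι : Nat4 F ≃+ V, ∀ g x, ι (mat g *ᵥ x) = ρ g (ι x) := by
  classical
  haveI : CharP F 2 := CharTwo.of_one_ne_zero_of_two_eq_zero one_ne_zero he.two
  let π : Sz F e →* Module.End F (V →+ F) :=
    { toFun := fun g =>
        { toFun := fun f => f.comp (ρ g⁻¹ : V →+ V)
          map_add' := fun f f' => by ext; rfl
          map_smul' := fun c f => by ext; rfl }
      map_one' := by
        refine LinearMap.ext fun f => AddMonoidHom.ext fun x => ?_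
        show f (ρ 1⁻¹ x) = f x
        rw [inv_one, rho_one]
      map_mul' := fun g h => by
        refine LinearMap.ext fun f => AddMonoidHom.ext fun x => ?_
        show f (ρ (g * h)⁻¹ x) = f (ρ h⁻¹ (ρ g⁻¹ x))
        rw [_root_.mul_inv_rev, rho_comp] }
  haveI : Finite (V →+ F) := Finite.of_injective _ DFunLike.coe_injective
  haveI : Nontrivial (V →+ F) := by
    letI : Module (ZMod 2) V := AddCommGroup.zmodModule h2
    obtain ⟨x, hx⟩ := exists_ne (0 : V)
    obtain ⟨f, hf⟩ := Module.Projective.exists_dual_ne_zero (ZMod 2) hx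
    refine ⟨⟨((ZMod.castHom (dvd_refl 2) F).toAddMonoidHom).comp f.toAddMonoidHom, 0, fun h => ?_⟩⟩
    have h1 := DFunLike.congr_fun h x
    simp only [AddMonoidHom.comp_apply, AddMonoidHom.zero_apply] at h1
    exact hf ((ZMod.castHom (dvd_refl 2) F).injective (h1.trans (map_zero _).symm))
  obtain ⟨D₀, hm⟩ := exists_minimal_of_wellFoundedLT
    (fun D : Submodule F (V →+ F) => (∀ g, ∀ f ∈ D, π g f ∈ D) ∧ D ≠ ⊥)
    ⟨⊤, fun _ _ _ => Submodule.mem_top, top_ne_bot⟩
  let π₀ : Sz F e →* Module.End F D₀ :=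
    { toFun := fun g => (π g).restrict (hm.1.1 g)
      map_one' := LinearMap.ext fun f => Subtype.ext (LinearMap.congr_fun π.map_one (f : V →+ F))
      map_mul' := fun g h =>
        LinearMap.ext fun f => Subtype.ext (LinearMap.congr_fun (π.map_mul g h) (f : V →+ F)) }
  haveI : Nontrivial D₀ := (Submodule.nontrivial_iff_ne_bot).2 hm.1.2
  obtain ⟨σ, Φ, hΦ⟩ := exists_twist he (D := D₀) π₀ (fun U hU => or_iff_not_imp_left.2 fun hU0 => by
      have hle : U.map D₀.subtype ≤ D₀ := Submodule.map_subtype_le D₀ U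
      have h1 : (∀ g, ∀ f ∈ U.map D₀.subtype, π g f ∈ U.map D₀.subtype) ∧
          U.map D₀.subtype ≠ ⊥ := by
        refine ⟨?_, fun h => hU0
        (Submodule.map_injective_of_injective D₀.injective_subtype (h.trans (Submodule.map_bot _).symm))⟩
        rintro g _ ⟨f, hf, rfl⟩
        exact ⟨_, hU g f hf, rfl⟩
      refine eq_top_iff.2 fun x _ => ?_
      obtain ⟨y, hy, hxy⟩ := hm.2 h1 hle x.2
      rwa [← Subtype.ext hxy])
    (fun g hg hg1 y hy => by
      have hinj : Function.Injective fun x => ρ g⁻¹ x - x := fun a b hab => by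
        refine sub_eq_zero.1 (hfpf g⁻¹ (by rwa [orderOf_inv]) (inv_ne_one.2 hg1) _ ?_)
        have h' := hab
        simp only at h'
        rw [map_sub, ← sub_eq_zero]
        rw [← sub_eq_zero] at h'
        rw [show ρ g⁻¹ a - ρ g⁻¹ b - (a - b) = ρ g⁻¹ a - a - (ρ g⁻¹ b - b) by abel]
        exact h'
      refine Subtype.ext (AddMonoidHom.ext fun x => ?_)
      obtain ⟨z, rfl⟩ := (Finite.injective_iff_surjective.1 hinj) x
      have h1 : (y : V →+ F) (ρ g⁻¹ z) = (y : V →+ F) z :=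
        DFunLike.congr_fun (congrArg Subtype.val hy) z
      simp only [map_sub, h1, sub_self, Submodule.coe_zero, AddMonoidHom.zero_apply])
  let d : Fin 4 → D₀ := fun i => Φ.symm (Pi.single i 1)
  have hd : ∀ g i, π₀ g (d i) = ∑ j, σ (mat g j i) • d j := by
    intro g i
    refine Φ.injective ?_
    rw [hΦ, map_sum]
    simp only [map_smul, d, Φ.apply_symm_apply]
    funext k
    simp [Matrix.mulVec_single_one, Pi.single_apply, Finset.sum_apply]
  let Ψ : V →+ Nat4 F := Pi.addMonoidHom fun i => (d i : V →+ F)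
  have hΨ : ∀ g x, Ψ (ρ g x) = ((mat g⁻¹)ᵀ).map σ *ᵥ Ψ x := by
    intro g x
    funext i
    have h1 := DFunLike.congr_fun (congrArg Subtype.val (hd g⁻¹ i)) x
    have h3 : ((π₀ g⁻¹ (d i) : D₀) : V →+ F) x = (d i : V →+ F) (ρ g x) := by
      show (d i : V →+ F) (ρ g⁻¹⁻¹ x) = _
      rw [inv_inv]
    rw [h3] at h1
    show (d i : V →+ F) (ρ g x) = _
    rw [h1]
    simp [Ψ, Matrix.mulVec, dotProduct]
    rfl
  let τ : F ≃+* F := RingEquiv.ofBijective σ (Finite.injective_iff_bijective.1 σ.injective)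
  have hτ : ∀ (M : Matrix (Fin 4) (Fin 4) F) (w : Nat4 F) (i : Fin 4),
      τ.symm ((M.map σ *ᵥ w) i) = (M *ᵥ fun j => τ.symm (w j)) i := fun M w i => by
    simp only [Matrix.mulVec, dotProduct, Matrix.map_apply, map_sum, map_mul]
    refine Finset.sum_congr rfl fun j _ => ?_
    rw [show σ (M i j) = τ (M i j) from rfl, RingEquiv.symm_apply_apply]
  let Θ : V →+ Nat4 F :=
    { toFun := fun x => Jmat *ᵥ fun j => τ.symm (Ψ x j)
      map_zero' := by
        rw [show (fun j => τ.symm (Ψ 0 j)) = (0 : Nat4 F) by funext j; simp, Matrix.mulVec_zero]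
      map_add' := fun x y => by
        rw [← Matrix.mulVec_add]; congr 1; funext j; simp }
  have hΘ : ∀ g x, Θ (ρ g x) = mat g *ᵥ Θ x := by
    intro g x
    show Jmat *ᵥ (fun j => τ.symm (Ψ (ρ g x) j)) = mat g *ᵥ (Jmat *ᵥ fun j => τ.symm (Ψ x j))
    rw [hΨ, show (fun j => τ.symm ((((mat g⁻¹)ᵀ).map σ *ᵥ Ψ x) j)) =
        (mat g⁻¹)ᵀ *ᵥ fun j => τ.symm (Ψ x j) from funext fun j => hτ _ _ j,
      Matrix.mulVec_mulVec, Matrix.mulVec_mulVec, mat_inv_transpose he, ← Matrix.mul_assoc,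
      ← Matrix.mul_assoc, Jmat_sq, Matrix.one_mul]
  have hne : ∃ x, Θ x ≠ 0 := by
    by_contra h
    push Not at h
    have hd0 : d 0 = 0 := Subtype.ext (AddMonoidHom.ext fun x => by
      have h1 := congrFun (h x) 3
      have h4 : τ.symm (Ψ x 0) = 0 := by
        simpa [Θ, Jmat, Matrix.mulVec, dotProduct, Fin.sum_univ_four] using h1
      exact τ.symm.injective (h4.trans (map_zero _).symm))
    have h5 : (Pi.single 0 1 : Nat4 F) = 0 :=
      Φ.symm.injective (hd0.trans (map_zero _).symm)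
    simpa using congrFun h5 0
  obtain ⟨x₀, hx₀⟩ := hne
  have hker : Θ.ker = ⊥ := (hirr _ fun g x hx => by
      rw [AddMonoidHom.mem_ker] at hx ⊢; rw [hΘ, hx, Matrix.mulVec_zero]).resolve_right fun h =>
    hx₀ (AddMonoidHom.mem_ker.1 (h ▸ AddSubgroup.mem_top x₀))
  have hran : Θ.range = ⊤ := nat_irred he _ (by
      rintro g _ ⟨x, rfl⟩; exact ⟨ρ g x, hΘ g x⟩) fun h =>
    hx₀ (AddSubgroup.mem_bot.1 (h ▸ AddMonoidHom.mem_range.2 ⟨x₀, rfl⟩))
  let ι : V ≃+ Nat4 F := AddEquiv.ofBijective Θ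
    ⟨(AddMonoidHom.ker_eq_bot_iff Θ).1 hker, AddMonoidHom.range_eq_top.1 hran⟩
  refine ⟨ι.symm, fun g x => ι.injective ?_⟩
  rw [ι.apply_symm_apply]
  show mat g *ᵥ x = Θ (ρ g (ι.symm x))
  rw [hΘ]
  exact congrArg _ (ι.apply_symm_apply x).symm

end CfsgLib.Recognition.CNSuzuki
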