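import Cfsg.Agent.Lib.Recognition.CNSuzuki.NatCoord

/-!
# There is no equivariant biadditive map of natural modules of a Suzuki group
-/

set_option autoImplicit false
set_option linter.unusedSectionVars false

namespace CfsgLib.Recognition.CNSuzuki

open Matrix Cfsg.Lie CfsgLib.KnownB.SzElem CfsgLib.KnownB.Suzuki

universe u

variable {F : Type u} [Field F] {e : ℕ}

/-- An additive map `x ↦ shift b (γ x')` with `x = b x'` is linear into the first line. -/
theorem line_of_shift (he : Twist F e) (hb : ∃ b : F, b ^ e ≠ b) (f γ : F → Nat4 F)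
    (h : ∀ b x, f (b * x) = shift e b (γ x)) : ∃ c : F, ∀ x, f x = E0 (x * c) := by
  have h1 : ∀ x, f x = shift e x (γ 1) := fun x => by rw [← h, mul_one]
  have h13 : ∀ x, γ x 3 = x * γ 1 3 := fun x => by
    have h6 : shift e 1 (γ x) = shift e x (γ 1) := by rw [← h, one_mul, h1]
    simpa [shift] using congrFun h6 1
  have hγ : γ 1 3 = 0 := by
    obtain ⟨b, hb⟩ := hb
    have h2 : ∀ x, γ x 2 + γ x 3 = x * γ 1 2 + x ^ e * γ 1 3 := fun x => by
      have h6 : shift e 1 (γ x) = shift e x (γ 1) := by rw [← h, one_mul, h1]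
      have h7 := congrFun h6 0
      rw [shift_at0, shift_at0, one_mul, one_pow, one_mul] at h7
      exact h7
    have h3 := congrFun ((h b b).symm.trans (h1 (b * b))) 0
    rw [shift_at0, shift_at0, h13 b] at h3
    have h4 := h2 b
    rw [h13] at h4
    have h5 : (b ^ e - b) * (b ^ e - b) * γ 1 3 = 0 := by
      linear_combination (-1 : F) * h3 + b * h4
    rcases mul_eq_zero.1 h5 with h6 | h6
    · exact absurd (sub_eq_zero.1 (mul_self_eq_zero.1 h6)) hb
    · exact h6
  exact ⟨γ 1 2, fun x => by rw [h1]; funext i; fin_cases i <;> simp [shift, E0, hγ]⟩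

variable [Finite F]

/-- No equivariant biadditive map from two natural modules to a natural module. -/
theorem bilinear_zero (he : Twist F e) (hb : ∃ b : F, b ^ e ≠ b)
    (β : Nat4 F →+ Nat4 F →+ Nat4 F)
    (hβ : ∀ (g : Sz F e) x y, β (mat g *ᵥ x) (mat g *ᵥ y) = mat g *ᵥ β x y) :
    ∀ x y, β x y = 0 := by
  have h2 : ∀ y : F, y + y = 0 := fun y => by rw [← two_mul, he.two, zero_mul]
  have hfixlow : ∀ b x y, mat (P he 0 b) *ᵥ (E0 x + E1 y) = E0 x + E1 y := fun b x y => by
    rw [mulVec_P_center, show shift e b (E0 x + E1 y) = 0 by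
      funext i; fin_cases i <;> simp [shift, E0, E1], add_zero]
  -- the shift passes through
  have hsh : ∀ (β' : Nat4 F →+ Nat4 F →+ Nat4 F),
      (∀ (g : Sz F e) x y, β' (mat g *ᵥ x) (mat g *ᵥ y) = mat g *ᵥ β' x y) →
      ∀ b v x y, β' (shift e b v) (E0 x + E1 y) = shift e b (β' v (E0 x + E1 y)) := by
    intro β' hβ' b v x y
    rw [shift_eq he, shift_eq he, map_sub, AddMonoidHom.sub_apply, ← hβ', hfixlow]
  have hflip : ∀ (g : Sz F e) x y,
      β.flip (mat g *ᵥ x) (mat g *ᵥ y) = mat g *ᵥ β.flip x y := fun g x y => hβ g y x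
  obtain ⟨b₁, hb₁⟩ := id hb
  have hb0 : b₁ ≠ 0 := by rintro rfl; exact hb₁ (zero_pow (Nat.ne_zero_of_lt he.one_lt))
  have ht1 : ∀ (t : Fˣ), (t : F) ≠ 1 → (t : F) ^ (e + 1) ≠ 1 := fun t ht h => ht (by
    have h7 : (t : F) ^ (e + 2) = 1 → (t : F) = 1 := eq_one_of_pow_e2 he
    rw [pow_succ] at h
    have h8 := congrArg (fun x => x ^ e) h
    simp only [one_pow, mul_pow, he.pow_pow] at h8
    exact h7 (by rw [pow_add, mul_comm]; exact h8))
  set t₁ : Fˣ := Units.mk0 b₁ hb0 with ht₁
  -- the first line against the fixed space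
  have hA0 : ∀ (β' : Nat4 F →+ Nat4 F →+ Nat4 F),
      (∀ (g : Sz F e) x y, β' (mat g *ᵥ x) (mat g *ᵥ y) = mat g *ᵥ β' x y) →
      ∀ z x y, β' (E0 z) (E0 x + E1 y) = 0 := by
    intro β' hβ'
    have hflip' : ∀ (g : Sz F e) x y,
        β'.flip (mat g *ᵥ x) (mat g *ᵥ y) = mat g *ᵥ β'.flip x y := fun g x y => hβ' g y x
    have hl : ∀ (β'' : Nat4 F →+ Nat4 F →+ Nat4 F),
        (∀ (g : Sz F e) x y, β'' (mat g *ᵥ x) (mat g *ᵥ y) = mat g *ᵥ β'' x y) →
        ∀ x y, ∃ c : F, ∀ z, β'' (E0 z) (E0 x + E1 y) = E0 (z * c) := fun β'' hβ'' x y =>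
      line_of_shift he hb _ (fun z => β'' (E2 z) (E0 x + E1 y)) fun b z => by
        rw [← shift_E2 (e := e), hsh β'' hβ'']
    choose c hc using hl β' hβ'
    have hc0 : ∀ z, c z 0 = z * c 1 0 := fun z => by
      obtain ⟨d, hd⟩ := hl β'.flip hflip' 1 0
      have h1 : ∀ z, β' (E0 1) (E0 z) = E0 (z * d) := fun z => by
        have := hd z
        rwa [E1_zero, add_zero, AddMonoidHom.flip_apply] at this
      have h3 : ∀ z, c z 0 = z * d := fun z => by
        have h4 := hc z 0 1
        rw [E1_zero, add_zero, h1, one_mul] at h4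
        simpa [E0] using (congrFun h4 0).symm
      rw [h3, h3, one_mul]
    have hk : c 1 0 = 0 := by
      have h1 := hβ' (H e he t₁) (E0 1) (E0 1)
      have h4 : ∀ z z', β' (E0 z) (E0 z') = E0 (z * (z' * c 1 0)) := fun z z' => by
        have := hc z' 0 z
        rwa [E1_zero, add_zero, hc0] at this
      rw [mulVec_H_E0, mul_one, h4, h4, mulVec_H_E0] at h1
      have h5 := congrFun h1 0
      simp only [E0_at0, one_mul] at h5
      have hs := ht1 t₁ (fun h => hb₁ (by rw [show b₁ = 1 from h, one_pow]))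
      have hs0 : (t₁ : F) ^ (e + 1) ≠ 0 := pow_ne_zero _ t₁.ne_zero
      have h6 : ((t₁ : F) ^ (e + 1) - 1) * ((t₁ : F) ^ (e + 1) * c 1 0) = 0 := by
        linear_combination h5
      exact (mul_eq_zero.1 ((mul_eq_zero.1 h6).resolve_left (sub_ne_zero.2 hs))).resolve_left hs0
    have hC : ∀ (t : Fˣ), c 0 t = c 0 1 := fun t => by
      have h1 := hβ' (H e he t) (E0 1) (E1 1)
      have h4 : ∀ z z', β' (E0 z) (E1 z') = E0 (z * c 0 z') := fun z z' => by
        have := hc 0 z' z
        rwa [E0_zero, zero_add] at this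
      rw [mulVec_H_E0, mulVec_H_E1, mul_one, mul_one, h4, h4, mulVec_H_E0] at h1
      have h5 := congrFun h1 0
      simp [E0] at h5
      exact h5
    intro z x y
    have hsum : β' (E0 z) (E0 x + E1 y) = β' (E0 z) (E0 x) + β' (E0 z) (E1 y) := map_add _ _ _
    have hE0 : β' (E0 z) (E0 x) = 0 := by
      have := hc x 0 z
      rw [E1_zero, add_zero] at this
      rw [this, hc0, hk, mul_zero, mul_zero, E0_zero]
    have hE1 : ∀ y, β' (E0 z) (E1 y) = E0 (z * c 0 y) := fun y => by
      have := hc 0 y z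
      rwa [E0_zero, zero_add] at this
    have hadd : c 0 (b₁ + 1) = c 0 b₁ + c 0 1 := by
      have h4 : ∀ z', β' (E0 1) (E1 z') = E0 (c 0 z') := fun z' => by
        have := hc 0 z' 1
        rwa [E0_zero, zero_add, one_mul] at this
      have h5 := congrArg (fun v : Nat4 F => v 0)
        (show β' (E0 1) (E1 (b₁ + 1)) = β' (E0 1) (E1 b₁) + β' (E0 1) (E1 1) by rw [E1_add, map_add])
      simp only [h4, Pi.add_apply, E0_at0] at h5
      exact h5
    have hb11 : b₁ + 1 ≠ 0 := fun h => hb₁ (by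
      have : b₁ = 1 := by linear_combination h - he.two
      rw [this, one_pow])
    rw [show c 0 (b₁ + 1) = c 0 1 from hC (Units.mk0 _ hb11),
      show c 0 b₁ = c 0 1 from hC t₁, h2] at hadd
    have hy : c 0 y = 0 := by
      rcases eq_or_ne y 0 with rfl | hy
      · have h6 := hE1 0
        rw [E1_zero, map_zero] at h6
        rcases eq_or_ne z 0 with rfl | hz
        · have h7 := hc 0 0 1
          rw [E0_zero, E1_zero, add_zero, map_zero, one_mul] at h7
          simpa [E0] using (congrFun h7 0).symm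
        · have := (congrFun h6 0).symm
          simpa [E0, hz] using this
      · rw [show c 0 y = c 0 1 from hC (Units.mk0 y hy)]; exact hadd
    rw [hsum, hE0, hE1, hy, mul_zero, E0_zero, add_zero]
  -- the fixed space against itself
  have hlow : ∀ x y x' y', β (E0 x + E1 y) (E0 x' + E1 y') = 0 := by
    have hl : ∀ (β'' : Nat4 F →+ Nat4 F →+ Nat4 F),
        (∀ (g : Sz F e) x y, β'' (mat g *ᵥ x) (mat g *ᵥ y) = mat g *ᵥ β'' x y) →
        ∀ y, ∃ c : F, ∀ z, β'' (E1 z) (E1 y) = E0 (z * c) := fun β'' hβ'' y =>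
      line_of_shift he hb _ (fun z => β'' (E3 z) (E1 y)) fun b z => by
        have h1 := hsh β'' hβ'' b (E3 z) 0 y
        rw [E0_zero, zero_add, shift_E3, map_add, AddMonoidHom.add_apply] at h1
        have h3 := hA0 β'' hβ'' (b ^ e * z) 0 y
        rw [E0_zero, zero_add] at h3
        rwa [h3, zero_add] at h1
    choose c hc using hl β hβ
    obtain ⟨d, hd⟩ := hl β.flip hflip 1
    have hcd : ∀ z, c z = z * d := fun z => by
      have h3 := hd z
      rw [AddMonoidHom.flip_apply, hc, one_mul] at h3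
      simpa [E0] using congrFun h3 0
    have hd0 : d = 0 := by
      have h1 := hβ (H e he t₁) (E1 1) (E1 1)
      rw [mulVec_H_E1, mul_one, hc, hc, hcd, hcd, mulVec_H_E0] at h1
      have h5 := congrFun h1 0
      simp [E0] at h5
      have h6 : (b₁ * b₁ - b₁ ^ (e + 1)) * d = 0 := by
        simp only [ht₁, Units.val_mk0] at h5
        linear_combination h5
      refine (mul_eq_zero.1 h6).resolve_left fun h => hb₁ ?_
      rw [pow_succ] at h
      exact mul_right_cancel₀ hb0 (sub_eq_zero.1 h).symm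
    intro x y x' y'
    have h3 : β (E1 y) (E0 x' + E1 y') = 0 := by
      have h4 := hA0 β.flip hflip x' 0 y
      rw [E0_zero, zero_add, AddMonoidHom.flip_apply] at h4
      rw [map_add, h4, hc, hcd, hd0, mul_zero, mul_zero, E0_zero, add_zero]
    rw [map_add β, AddMonoidHom.add_apply, hA0 β hβ, h3, add_zero]
  -- values against the fixed space lie in it
  have hval : ∀ (β' : Nat4 F →+ Nat4 F →+ Nat4 F),
      (∀ (g : Sz F e) x y, β' (mat g *ᵥ x) (mat g *ᵥ y) = mat g *ᵥ β' x y) →
      (∀ x y x' y', β' (E0 x + E1 y) (E0 x' + E1 y') = 0) →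
      ∀ v x y, β' v (E0 x + E1 y) 3 = 0 ∧ β' v (E0 x + E1 y) 2 = 0 := by
    intro β' hβ' hlow' v x y
    have h1 : ∀ b, shift e b (β' v (E0 x + E1 y)) = 0 := fun b => by
      rw [← hsh β' hβ', show shift e b v = E0 (b * v 2 + b ^ e * v 3) + E1 (b * v 3) by
        funext i; fin_cases i <;> simp [shift, E0, E1], hlow']
    have h3 : β' v (E0 x + E1 y) 3 = 0 := by simpa [shift] using congrFun (h1 1) 1
    exact ⟨h3, by simpa [shift, h3] using congrFun (h1 1) 0⟩
  have hW2 : ∀ v : Nat4 F, mat (W he) *ᵥ (mat (W he) *ᵥ v) = v := fun v => by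
    rw [mulVec_W, mulVec_W]; funext i; fin_cases i <;> simp
  have hWlow : ∀ x y, mat (W he) *ᵥ (E0 x + E1 y) = E2 y + E3 x := fun x y => by
    rw [mulVec_W]; funext i; fin_cases i <;> simp [E0, E1, E2, E3]
  have hcross : ∀ x y x' y', β (E0 x + E1 y) (E2 y' + E3 x') = 0 := by
    intro x y x' y'
    have ha := hval β.flip hflip (fun a b c d => hlow c d a b) (E2 y' + E3 x') x y
    rw [AddMonoidHom.flip_apply] at ha
    have hb' := hval β hβ hlow (E2 y + E3 x) x' y'
    have e : mat (W he) *ᵥ β (E0 x + E1 y) (E2 y' + E3 x') =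
        β (E2 y + E3 x) (E0 x' + E1 y') := by
      rw [← hβ, hWlow, ← hWlow x' y', hW2]
    rw [← e, mulVec_W] at hb'
    simp only [Matrix.cons_val, Matrix.cons_val_zero, Matrix.cons_val_one] at hb'
    funext i
    fin_cases i
    · exact hb'.1
    · exact hb'.2
    · exact ha.2
    · exact ha.1
  intro v w
  have hsplit : ∀ v : Nat4 F, v = (E0 (v 0) + E1 (v 1)) + (E2 (v 2) + E3 (v 3)) := fun v => by
    conv_lhs => rw [eq_sum v]
    abel
  have hhigh : ∀ x y x' y', β (E2 y + E3 x) (E2 y' + E3 x') = 0 := fun x y x' y' => by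
    rw [← hWlow, ← hWlow, hβ, hlow, Matrix.mulVec_zero]
  have hcross' : ∀ x y x' y', β (E2 y + E3 x) (E0 x' + E1 y') = 0 := fun x y x' y' => by
    rw [← hWlow x y, ← hW2 (E0 x' + E1 y'), hWlow x' y', hβ, hcross, Matrix.mulVec_zero]
  rw [hsplit v, hsplit w, map_add β (E0 _ + E1 _), AddMonoidHom.add_apply,
    map_add (β (E0 _ + E1 _)) (E0 _ + E1 _), map_add (β (E2 _ + E3 _)) (E0 _ + E1 _), hlow, hcross,
    hcross', hhigh, add_zero, add_zero]

end CfsgLib.Recognition.CNSuzuki
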