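import Cfsg.Agent.Lib.Recognition.CNSuzuki.NatCoord

/-!
# The centre of a Sylow 2-subgroup of a Suzuki group on a module with natural top and bottom

`X` has a bottom `ι` and a top `π` which are natural, and `(z - 1)(z' - 1)` kills the kernel of `π`
for the central elements `z`, `z'` of the unitriangular group. Then `2 X = 0` and `(z - 1)(z' - 1)`
kills `X`.
-/

set_option autoImplicit false
set_option linter.unusedSectionVars false

namespace CfsgLib.Recognition.CNSuzuki

open Matrix Cfsg.Lie CfsgLib.KnownB.SzElem CfsgLib.KnownB.Suzuki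

universe u v

variable {F : Type u} [Field F] [Finite F] {e : ℕ}

/-- A symmetric biadditive map vanishing on the diagonal, homogeneous along a field endomorphism,
vanishes. -/
theorem alt_zero [CharP F 2] (θ : F →+* F) (k : F → F → F)
    (hadd : ∀ b b' c, k (b + b') c = k b c + k b' c) (hsymm : ∀ b c, k b c = k c b)
    (hdiag : ∀ b, k b b = 0) (hhom : ∀ u b c, u ≠ 0 → k (u * b) (u * c) = θ u * k b c) :
    ∀ b c, k b c = 0 := by
  have hf1 : k 1 1 = 0 := hdiag 1
  have hfadd : ∀ x y, k 1 (x + y) = k 1 x + k 1 y := fun x y => by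
    rw [hsymm, hadd, hsymm x, hsymm y]
  have hinv : ∀ x, x ≠ 0 → k 1 x = θ x * k 1 x⁻¹ := fun x hx => by
    rw [← hhom x 1 x⁻¹ hx, mul_one, mul_inv_cancel₀ hx, hsymm]
  have hz : ∀ x, k 1 x = 0 := by
    have hsq : ∀ x, k 1 (x * x) = 0 := by
      intro x
      rcases eq_or_ne x 0 with rfl | hx
      · have h := hfadd 0 0
        rw [add_zero] at h
        rw [mul_zero]
        exact left_eq_add.1 h
      rcases eq_or_ne x 1 with rfl | hx1
      · rw [mul_one]; exact hf1
      have hx2 : x + 1 ≠ 0 := fun h => hx1 (CharTwo.add_eq_zero.1 h)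
      have hy : x * (x + 1) ≠ 0 := mul_ne_zero hx hx2
      have hsum : (x * (x + 1))⁻¹ = x⁻¹ + (x + 1)⁻¹ := by
        field_simp
        linear_combination (-x) * CharTwo.two_eq_zero (R := F)
      have h1 := hinv _ hy
      rw [hsum, hfadd, map_mul] at h1
      have h2 := hinv x hx
      have h3 := hinv (x + 1) hx2
      rw [hfadd, hf1, add_zero] at h3
      have h4 : θ (x + 1) = θ x + 1 := by rw [map_add, map_one]
      rw [h4] at h1 h3
      have h5 : k 1 (x * (x + 1)) = k 1 x := by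
        linear_combination h1 - (θ x + 1) * h2 - θ x * h3 + (k 1 x * θ x) * CharTwo.two_eq_zero (R := F)
      rw [mul_add, mul_one, hfadd] at h5
      exact add_eq_right.1 h5
    intro x
    obtain ⟨y, rfl⟩ := FiniteField.isSquare_of_char_two (ringChar.eq F 2) x
    exact hsq y
  intro b c
  rcases eq_or_ne b 0 with rfl | hb
  · have h := hadd 0 0 c
    rw [add_zero] at h
    exact left_eq_add.1 h
  rw [show k b c = k (b * 1) (b * (c / b)) by rw [mul_one, mul_div_cancel₀ _ hb], hhom b _ _ hb, hz,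
    mul_zero]

variable {X : Type v} [AddCommGroup X]

/-- `P 0 b - 1` on a module. -/
def tau (he : Twist F e) (ρ : Sz F e →* AddMonoid.End X) (b : F) (x : X) : X := ρ (P he 0 b) x - x

section

variable (he : Twist F e) (ρ : Sz F e →* AddMonoid.End X)

theorem tau_add (b : F) (x y : X) : tau he ρ b (x + y) = tau he ρ b x + tau he ρ b y := by
  simp only [tau, map_add]; abel

theorem tau_sub (b : F) (x y : X) : tau he ρ b (x - y) = tau he ρ b x - tau he ρ b y := by
  simp only [tau, map_sub]; abel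

theorem rho_mul (g h : Sz F e) (x : X) : ρ (g * h) x = ρ g (ρ h x) := by rw [map_mul]; rfl

theorem tau_comm (b c : F) (x : X) : tau he ρ b (tau he ρ c x) = tau he ρ c (tau he ρ b x) := by
  have h : ρ (P he 0 b) (ρ (P he 0 c) x) = ρ (P he 0 c) (ρ (P he 0 b) x) := by
    rw [← rho_mul, ← rho_mul, P_mul, P_mul, add_comm b c]
  simp only [tau, map_sub, h]; abel

theorem tau_self (b : F) (x : X) : tau he ρ b (tau he ρ b x) = -((2 : ℕ) • tau he ρ b x) := by
  have h : ρ (P he 0 b) (ρ (P he 0 b) x) = x := by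
    have h0 : P he 0 b * P he 0 b = 1 := by
      rw [P_mul, ← P_zero he]
      congr 1
      · rw [add_zero]
      · rw [mul_zero, add_zero, ← two_mul, he.two, zero_mul]
    rw [← rho_mul, h0, map_one]; rfl
  simp only [tau, map_sub, h, two_nsmul]; abel

theorem tau_sum (b c : F) (x : X) :
    tau he ρ (b + c) x = tau he ρ b x + tau he ρ c x + tau he ρ b (tau he ρ c x) := by
  have h : ρ (P he 0 (b + c)) x = ρ (P he 0 b) (ρ (P he 0 c) x) := by
    rw [← rho_mul, P_mul]; simp [zero_pow (Nat.ne_zero_of_lt he.one_lt)]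
  simp only [tau, h, map_sub]; abel

theorem tau_conj {g : Sz F e} {b b' : F} (h : g * P he 0 b = P he 0 b' * g) (x : X) :
    ρ g (tau he ρ b x) = tau he ρ b' (ρ g x) := by
  simp only [tau, map_sub, ← rho_mul, h]

end

variable [CharP F 2]

/-- The engine. -/
theorem engine (he : Twist F e) (hb : ∃ b : F, b ^ e ≠ b) (ρ : Sz F e →* AddMonoid.End X)
    (ι : Nat4 F →+ X) (hιinj : Function.Injective ι) (hι : ∀ g v, ι (mat g *ᵥ v) = ρ g (ι v))
    (π : X →+ Nat4 F) (hπsurj : Function.Surjective π) (hπ : ∀ g x, π (ρ g x) = mat g *ᵥ π x)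
    (hπι : ∀ v, π (ι v) = 0) (ε : F) (hε : ε = 0 ∨ ε = 1)
    (h2 : ∀ x : X, (2 : ℕ) • x = ι (ε • π x))
    (hQK : ∀ k : X, π k = 0 → ∀ b c, tau he ρ b (tau he ρ c k) = 0)
    (hQV : ∀ b c x, ∃ v, tau he ρ b (tau he ρ c x) = ι v)
    (hC : ∀ k : X, π k = 0 → tau he ρ 1 k = 0 → ∀ b, tau he ρ b k = 0) :
    ε = 0 ∧ ∀ b c x, tau he ρ b (tau he ρ c x) = 0 := by
  have htwo : (2 : F) = 0 := he.two
  have hτι : ∀ b v, tau he ρ b (ι v) = ι (shift e b v) := fun b v => by
    rw [tau, ← hι, ← map_sub, ← shift_eq he]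
  have hπτ : ∀ b x, π (tau he ρ b x) = shift e b (π x) := fun b x => by
    rw [tau, map_sub, hπ, ← shift_eq he]
  have hιneg : ∀ v, -ι v = ι v := fun v => by
    rw [← map_neg]; congr 1; funext i; exact CharTwo.neg_eq _
  choose lift hlift using hπsurj
  have hsub : ∀ b c x y, π x = π y →
      tau he ρ b (tau he ρ c x) = tau he ρ b (tau he ρ c y) := fun b c x y h => by
    have h1 := hQK (x - y) (by rw [map_sub, h, sub_self]) b c
    rwa [tau_sub, tau_sub, sub_eq_zero] at h1
  choose qv hqv using hQV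
  let q : F → F → Nat4 F → Nat4 F := fun b c v => qv b c (lift v)
  have hq : ∀ b c x, tau he ρ b (tau he ρ c x) = ι (q b c (π x)) := fun b c x => by
    rw [← hqv]; exact hsub b c x _ (hlift _).symm
  have hqsymm : ∀ b c v, q b c v = q c b v := fun b c v => hιinj (by
    rw [← hlift v, ← hq, ← hq, tau_comm])
  have hqaddv : ∀ b c v w, q b c (v + w) = q b c v + q b c w := fun b c v w => hιinj (by
    rw [map_add, ← hlift v, ← hlift w, ← map_add π, ← hq, ← hq, ← hq, tau_add, tau_add])
  have hqq : ∀ b v, q b b v = ε • shift e b v := fun b v => hιinj (by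
    rw [← hlift v, ← hq, tau_self, h2, hπτ, hιneg])
  -- the values lie in the fixed space
  have h3 : ∀ b c v, q b c v 3 = 0 ∧ q b c v 2 = 0 := by
    intro b c v
    have hsw : ∀ d b c, shift e d (q b c v) = shift e b (q d c v) := fun d b c => hιinj (by
      rw [← hτι, ← hτι, ← hlift v, ← hq, ← hq, tau_comm])
    have h11 : q 1 1 v 3 = 0 ∧ q 1 1 v 2 = 0 := by
      rw [hqq]; simp [shift]
    have e3 : ∀ b c, q b c v 3 = b * q 1 c v 3 := fun b c => by
      simpa [shift] using congrFun (hsw 1 b c) 1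
    have e3' : ∀ b c, q b c v 3 = 0 := fun b c => by
      rw [e3, hqsymm, e3, h11.1, mul_zero, mul_zero]
    have e2 : ∀ b c, q b c v 2 = b * q 1 c v 2 := fun b c => by
      simpa [shift, e3'] using congrFun (hsw 1 b c) 0
    exact ⟨e3' b c, by rw [e2, hqsymm, e2, h11.2, mul_zero, mul_zero]⟩
  have hshiftq : ∀ d b c v, shift e d (q b c v) = 0 := fun d b c v => by
    funext i; fin_cases i <;> simp [shift, (h3 b c v).1, (h3 b c v).2]
  have hqlow : ∀ b c v, q b c v = E0 (q b c v 0) + E1 (q b c v 1) := fun b c v => by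
    funext i; fin_cases i <;> simp [E0, E1, (h3 b c v).1, (h3 b c v).2]
  have hqaddb : ∀ b b' c v, q (b + b') c v = q b c v + q b' c v := fun b b' c v => hιinj (by
    rw [map_add, ← hlift v, ← hq, ← hq, ← hq, tau_sum, hq b' c, hτι, hshiftq, map_zero, add_zero])
  -- it kills the fixed space of the top
  have hqA : ∀ b c x y, q b c (E0 x + E1 y) = 0 := by
    intro b c x y
    have hv : E0 x + E1 y = shift e 1 (E2 (x + y) + E3 y) := by
      funext i
      fin_cases i <;> simp [shift, E0, E1, E2, E3]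
      linear_combination (-y) * htwo
    rw [hv]
    refine hιinj ?_
    rw [map_zero, ← hlift (E2 (x + y) + E3 y), ← hπτ, ← hq, hq c 1, hτι, hshiftq, map_zero]
  -- equivariance
  have hqg : ∀ (g : Sz F e) b c b' c', g * P he 0 b = P he 0 b' * g →
      g * P he 0 c = P he 0 c' * g → ∀ v, q b' c' (mat g *ᵥ v) = mat g *ᵥ q b c v := by
    intro g b c b' c' hb' hc' v
    refine hιinj ?_
    rw [hι, ← hlift v, ← hπ, ← hq, ← hq, tau_conj he ρ hb', tau_conj he ρ hc']
  have hqu : ∀ a b c v, q b c (mat (P he a 0) *ᵥ v) = mat (P he a 0) *ᵥ q b c v := fun a b c v => by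
    refine hqg _ b c b c ?_ ?_ v <;>
      rw [P_mul, P_mul] <;> simp [zero_pow (Nat.ne_zero_of_lt he.one_lt), add_comm]
  have hE2 : ∀ b c a x, q b c (E2 (a * x)) = E0 (a * q b c (E3 x) 1) := by
    intro b c a x
    have h1 := hqu a b c (E3 x)
    rw [mulVec_u_E3, hqaddv, hqaddv, hqlow b c (E3 x), mulVec_u_low] at h1
    have h5 : q b c (E0 (a ^ (e + 2) * x)) = 0 := by
      have h6 := hqA b c (a ^ (e + 2) * x) 0
      rwa [E1_zero, add_zero] at h6
    rw [h5, add_zero, E0_add] at h1
    rw [show E0 (q b c (E3 x) 0) + E0 (a * q b c (E3 x) 1) + E1 (q b c (E3 x) 1) =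
      E0 (q b c (E3 x) 0) + E1 (q b c (E3 x) 1) + E0 (a * q b c (E3 x) 1) by abel, ← hqlow] at h1
    exact add_left_cancel h1
  let r : F → F → F := fun b c => q b c (E3 1) 1
  have hE2' : ∀ b c x, q b c (E2 x) = E0 (x * r b c) := fun b c x => by
    rw [← mul_one x, hE2, mul_one]
  have hE31 : ∀ b c x, q b c (E3 x) 1 = x * r b c := fun b c x => by
    have h1 := hE2 b c 1 x
    rw [one_mul, one_mul, hE2'] at h1
    simpa [E0] using (congrFun h1 0).symm
  -- the key relation
  have hkey : ∀ b x, ε * b * x = ε * b * b * x ∧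
      (ε = 0 → r 1 b = 0 → q 1 b (E3 (b * x)) 0 = b * q 1 b (E3 x) 0) := by
    intro b x
    set v' := E2 ((b ^ e + b) * x) + E3 (b * x) with hv'
    have hT : shift e 1 v' = shift e b (E3 x) := by
      funext i
      fin_cases i <;> simp [hv', shift, E2, E3]
      linear_combination (b * x) * htwo
    set ζ := tau he ρ b (lift (E3 x)) - tau he ρ 1 (lift v') with hζ
    have hζK : π ζ = 0 := by rw [hζ, map_sub, hπτ, hπτ, hlift, hlift, hT, sub_self]
    set p := q 1 b (E3 x) + ε • shift e 1 v' with hp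
    have hζ1 : tau he ρ 1 ζ = ι p := by
      rw [hζ, tau_sub, hq, hq, hlift, hlift, hqq, hp, map_add, sub_eq_add_neg, hιneg]
    set v₀ := E2 (p 0 + p 1) + E3 (p 1) with hv₀
    have hv₀p : shift e 1 v₀ = p := by
      have h2' : p 2 = 0 ∧ p 3 = 0 := by simp [hp, (h3 1 b (E3 x)).1, (h3 1 b (E3 x)).2]
      funext i
      fin_cases i <;> simp [hv₀, shift, E2, E3, h2'.1, h2'.2]
      linear_combination (p 1) * htwo
    have hζb : tau he ρ b ζ = ι (shift e b v₀) := by
      have h1 := hC (ζ - ι v₀) (by rw [map_sub, hζK, hπι, sub_self])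
        (by rw [tau_sub, hζ1, hτι, hv₀p, sub_self]) b
      rwa [tau_sub, sub_eq_zero, hτι] at h1
    have hmain : ε • shift e b (E3 x) = q b 1 v' + shift e b v₀ := by
      refine hιinj ?_
      have a1 := hq b b (lift (E3 x))
      have a2 := hq b 1 (lift v')
      rw [hlift] at a1 a2
      rw [map_add, ← hqq, ← a1, ← a2, ← hζb, hζ, tau_sub]
      abel
    have hq1 : q b 1 v' = E0 ((b ^ e + b) * x * r b 1) + q b 1 (E3 (b * x)) := by
      rw [hv', hqaddv, hE2']
    have hrs : r b 1 = r 1 b := congrFun (hqsymm b 1 _) 1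
    have hp1 : p 1 = x * r 1 b + ε * (b * x) := by
      rw [hp, hT]; simp [hE31]
    refine ⟨?_, fun hε0 hr0 => ?_⟩
    · have h1 := congrFun hmain 1
      rw [hq1] at h1
      simp [hv₀, hE31, hrs, hp1] at h1
      linear_combination h1 + (b * x * r 1 b) * htwo
    · have h1 := congrFun hmain 0
      have hp0 : p 0 = q 1 b (E3 x) 0 := by simp [hp, hε0]
      rw [hq1, hqsymm b 1 (E3 (b * x))] at h1
      simp [hv₀, hrs, hr0, hε0, hp1, hp0] at h1
      linear_combination -h1 - (b * q 1 b (E3 x) 0) * htwo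
  obtain ⟨b₀, hb₀⟩ := hb
  have hb0 : b₀ ≠ 0 := by rintro rfl; exact hb₀ (zero_pow (Nat.ne_zero_of_lt he.one_lt))
  have hb1 : b₀ ≠ 1 := by rintro rfl; exact hb₀ (one_pow e)
  have hε0 : ε = 0 := by
    rcases hε with h | h
    · exact h
    · have h1 := (hkey b₀ 1).1
      rw [h, one_mul, mul_one, mul_one] at h1
      exact absurd (mul_left_cancel₀ hb0 (h1.symm.trans (mul_one b₀).symm)) hb1
  refine ⟨hε0, ?_⟩
  have hHP : ∀ (t : Fˣ) b, H e he t * P he 0 b = P he 0 ((t : F) ^ (e + 2) * b) * H e he t :=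
    fun t b => by
      have h1 := H_conj_P he t 0 b
      rw [mul_zero, mul_inv_eq_iff_eq_mul] at h1
      exact h1
  have hqH : ∀ (t : Fˣ) b c x,
      q ((t : F) ^ (e + 2) * b) ((t : F) ^ (e + 2) * c) (E3 (((t : F) ^ (e + 1))⁻¹ * x)) =
        mat (H e he t) *ᵥ q b c (E3 x) := fun t b c x => by
    rw [← mulVec_H_E3 he, hqg _ b c _ _ (hHP t b) (hHP t c)]
  have hdiag : ∀ b v i, q b b v i = 0 := fun b v i => by rw [hqq, hε0]; simp
  have hroot : ∀ u : F, u ≠ 0 → ∃ t : Fˣ, (t : F) ^ (e + 2) = u := fun u hu => by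
    obtain ⟨t, ht⟩ := (units_pow_e2_bijective he).2 (Units.mk0 u hu)
    exact ⟨t, by simpa using congrArg Units.val ht⟩
  have hr : ∀ b c, r b c = 0 := by
    refine alt_zero (RingHom.id F) r (fun b b' c => congrFun (hqaddb b b' c _) 1)
      (fun b c => congrFun (hqsymm b c _) 1) (fun b => hdiag b _ 1) fun u b c hu => ?_
    obtain ⟨t, rfl⟩ := hroot u hu
    have h1 := congrFun (hqH t b c 1) 1
    rw [mul_one, hE31, mulVec_H] at h1
    simp only [Matrix.cons_val_one, Matrix.cons_val_zero] at h1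
    have ht : (t : F) ^ (e + 1) ≠ 0 := pow_ne_zero _ t.ne_zero
    rw [RingHom.id_apply, show (t : F) ^ (e + 2) = (t : F) ^ (e + 1) * t from pow_succ _ _]
    rw [show (t : F) ^ (e + 2) = (t : F) ^ (e + 1) * t from pow_succ _ _] at h1
    field_simp at h1
    linear_combination h1
  let L : F → F → F → F := fun b c x => q b c (E3 x) 0
  have hLb : ∀ b b' c x, L (b + b') c x = L b c x + L b' c x := fun b b' c x => congrFun (hqaddb b b' c _) 0
  have hLs : ∀ b c x, L b c x = L c b x := fun b c x => congrFun (hqsymm b c _) 0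
  have hLH : ∀ (t : Fˣ) b c x,
      L ((t : F) ^ (e + 2) * b) ((t : F) ^ (e + 2) * c) (((t : F) ^ (e + 1))⁻¹ * x) =
        (t : F) ^ (e + 1) * L b c x := fun t b c x => by
    have h1 := congrFun (hqH t b c x) 0
    rw [mulVec_H] at h1
    simpa using h1
  have hLone : ∀ b x, L 1 b (b * x) = b * L 1 b x := fun b x => (hkey b x).2 hε0 (hr 1 b)
  have hLc : ∀ c ρ' x, L c (c * ρ') (ρ' * x) = ρ' * L c (c * ρ') x := by
    intro c ρ' x
    rcases eq_or_ne c 0 with rfl | hc
    · have h0 : ∀ y, L 0 0 y = 0 := fun y => hdiag 0 _ 0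
      rw [zero_mul, h0, h0, mul_zero]
    obtain ⟨t, rfl⟩ := hroot c hc
    have ht : (t : F) ^ (e + 1) ≠ 0 := pow_ne_zero _ t.ne_zero
    have h1 := hLH t 1 ρ' (ρ' * ((t : F) ^ (e + 1) * x))
    have h2 := hLH t 1 ρ' ((t : F) ^ (e + 1) * x)
    rw [mul_one, inv_mul_cancel_left₀ ht] at h2
    rw [mul_one, show ((t : F) ^ (e + 1))⁻¹ * (ρ' * ((t : F) ^ (e + 1) * x)) = ρ' * x by field_simp,
      hLone] at h1
    rw [h1, h2]; ring
  -- linearity
  have hlin : ∀ g₀ : Fˣ, (∀ u, u ∈ Subgroup.zpowers g₀) → ∀ b c x,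
      L b c ((g₀ : F) * x) = (g₀ : F) * L b c x := by
    intro g₀ hg₀ b c x
    let D : F → F → F := fun y z => L y z ((g₀ : F) * x) + (g₀ : F) * L y z x
    have hDa : ∀ y y' z, D (y + y') z = D y z + D y' z := fun y y' z => by
      simp only [D, hLb]; ring
    have hDs : ∀ y z, D y z = D z y := fun y z => by simp only [D, hLs y z]
    have hDd : ∀ y, D y y = 0 := fun y => by
      have h0 : ∀ z, L y y z = 0 := fun z => hdiag y _ 0
      simp only [D, h0]; ring
    have hDc : ∀ y, D y (y * g₀) = 0 := fun y => by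
      simp only [D, hLc, CharTwo.add_self_eq_zero]
    have hDa' : ∀ y z z', D y (z + z') = D y z + D y z' := fun y z z' => by
      rw [hDs, hDa, hDs z, hDs z']
    have hpolar : ∀ y z, D y ((g₀ : F) * z) = D ((g₀ : F) * y) z := fun y z => by
      have h1 := hDc (y + z)
      rw [add_mul, hDa, hDa', hDa', hDc, hDc, zero_add, add_zero] at h1
      rw [mul_comm, CharTwo.add_eq_zero.1 h1, hDs, mul_comm]
    have hall : ∀ (n : ℕ) y z, D y ((g₀ : F) ^ n * z) = D ((g₀ : F) ^ n * y) z := by
      intro n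
      induction n with
      | zero => intro y z; simp
      | succ n ih =>
        intro y z
        rw [pow_succ, mul_assoc, ih, hpolar, mul_comm ((g₀ : F) ^ n) (g₀ : F), mul_assoc]
    have hw : ∀ w y z, D y (w * z) = D (w * y) z := by
      intro w y z
      rcases eq_or_ne w 0 with rfl | hw
      · have h0 : D y 0 = 0 := by
          have := hDa' y 0 0; rw [add_zero] at this; exact left_eq_add.1 this
        rw [zero_mul, zero_mul, h0, hDs]
        have h0' : D z 0 = 0 := by
          have := hDa' z 0 0; rw [add_zero] at this; exact left_eq_add.1 this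
        rw [h0']
      obtain ⟨n, hn⟩ := (Submonoid.mem_powers_iff _ _).1 (mem_powers_iff_mem_zpowers.2 (hg₀ (Units.mk0 w hw)))
      have hn' : (g₀ : F) ^ n = w := by rw [← Units.val_pow_eq_pow_val, hn]; rfl
      rw [← hn', hall]
    have hD1 : ∀ y, D 1 y = 0 := fun y => by
      obtain ⟨z, rfl⟩ := FiniteField.isSquare_of_char_two (ringChar.eq F 2) y
      rw [hw, mul_one, hDd]
    have h1 : D b c = 0 := by
      rw [show D b c = D (b * 1) c by rw [mul_one], ← hw, hD1]
    exact CharTwo.add_eq_zero.1 h1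
  have hLlin : ∀ b c x, L b c x = x * L b c 1 := by
    obtain ⟨g₀, hg₀⟩ := IsCyclic.exists_generator (α := Fˣ)
    intro b c x
    rcases eq_or_ne x 0 with rfl | hx
    · have h1 := congrFun (hqaddv b c (E3 0) (E3 0)) 0
      rw [E3_zero, add_zero] at h1
      rw [zero_mul]
      show q b c (E3 0) 0 = 0
      rw [E3_zero]
      exact left_eq_add.1 h1
    obtain ⟨n, hn⟩ := (Submonoid.mem_powers_iff _ _).1 (mem_powers_iff_mem_zpowers.2 (hg₀ (Units.mk0 x hx)))
    have hn' : (g₀ : F) ^ n = x := by rw [← Units.val_pow_eq_pow_val, hn]; rfl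
    rw [← hn']
    clear * - hlin hg₀
    induction n with
    | zero => simp
    | succ n ih => rw [pow_succ', hlin g₀ hg₀, ih, mul_assoc]
  have hL : ∀ b c, L b c 1 = 0 := by
    refine alt_zero (theta he) (fun b c => L b c 1) (fun b b' c => hLb b b' c 1) (fun b c => hLs b c 1)
      (fun b => hdiag b _ 0) fun u b c hu => ?_
    obtain ⟨t, rfl⟩ := hroot u hu
    have ht : (t : F) ^ (e + 1) ≠ 0 := pow_ne_zero _ t.ne_zero
    have h1 := hLH t b c 1
    rw [mul_one, hLlin] at h1
    show L _ _ 1 = ((t : F) ^ (e + 2)) ^ e * L b c 1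
    have hs : ((t : F) ^ (e + 2)) ^ e = (t : F) ^ (e + 1) * (t : F) ^ (e + 1) := by
      rw [pow_right_comm, pow_add, he.pow_pow, ← pow_mul, ← pow_add, ← pow_add]
      congr 1; ring
    rw [hs]
    field_simp at h1
    linear_combination h1
  intro b c x
  rw [hq, show q b c (π x) = 0 from ?_, map_zero]
  rw [eq_sum (π x), hqaddv, hqaddv, hqA, hE2', hr, mul_zero, E0_zero, zero_add, zero_add,
    hqlow, hE31, hr, mul_zero, E1_zero, add_zero]
  rw [show q b c (E3 (π x 3)) 0 = L b c (π x 3) from rfl, hLlin, hL, mul_zero, E0_zero]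

end CfsgLib.Recognition.CNSuzuki
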