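import Cfsg.Agent.Lib.Recognition.CNSuzuki.Basic
import Cfsg.Agent.Lib.Recognition.CNSuzuki.Engine
import Cfsg.Agent.Lib.Recognition.CNSuzuki.Bilinear

/-!
# Fixed-point-free modules of a Suzuki group whose exponent divides four

Such a module has exponent two, and there is no nonzero equivariant biadditive map between such
modules.
-/

set_option autoImplicit false
set_option linter.unusedSectionVars false
set_option linter.style.haveILetI false

namespace CfsgLib.Recognition.CNSuzuki

open Matrix Cfsg.Lie CfsgLib.KnownB.SzElem CfsgLib.KnownB.Suzuki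

universe u v

variable {F : Type u} [Field F] [Fintype F] {e : ℕ}

/-- The kernel of an endomorphism of square zero of a finite group has at least the square root of
the cardinality. -/
theorem card_le_ker_sq {X : Type v} [AddCommGroup X] [Finite X] (f : X →+ X) (h : f.range ≤ f.ker) :
    Nat.card X ≤ Nat.card f.ker * Nat.card f.ker := by
  rw [← f.ker.card_mul_index, AddSubgroup.index_ker]
  exact Nat.mul_le_mul_left _ (AddSubgroup.card_le_of_le h)

/-- On an elementary module the fixed points of a central involution are commutators. -/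
theorem exists_tau_eq (he : Twist F e) {X : Type v} [AddCommGroup X] [Finite X]
    (ρ : Sz F e →* AddMonoid.End X) (h2 : ∀ x : X, (2 : ℕ) • x = 0) (hfpf : OddFpf ρ) {k : X}
    (hk : tau he ρ 1 k = 0) : ∃ y, tau he ρ 1 y = k := by
  let f : Sz F e → (X →+ X) := fun g =>
    { toFun := fun x => ρ g x - x
      map_zero' := by simp
      map_add' := fun x y => by rw [map_add]; abel }
  have hsq : ∀ g : Sz F e, g * g = 1 → (f g).range ≤ (f g).ker := by
    rintro g hg _ ⟨x, rfl⟩
    have h1 : ρ g (ρ g x) = x := by rw [← rho_comp, hg, rho_one]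
    show ρ g (ρ g x - x) - (ρ g x - x) = 0
    have h3 : ρ g x + ρ g x = 0 := by rw [← two_nsmul]; exact h2 _
    have h4 : x + x = 0 := by rw [← two_nsmul]; exact h2 _
    rw [map_sub, h1, show x - ρ g x - (ρ g x - x) = x + x - (ρ g x + ρ g x) by abel, h3, h4, sub_zero]
  have hW : W he * W he = 1 := by
    apply mat_injective
    rw [mat_mul, mat_W, Jmat_sq]
    rfl
  have hP : P he (0 : F) 1 * P he 0 1 = 1 := by
    rw [P_mul, ← P_zero he]
    congr 1
    · rw [add_zero]
    · rw [mul_zero, add_zero, ← two_mul, he.two, zero_mul]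
  have hx1 : P he (0 : F) 1 * W he ≠ 1 := fun h => by
    have := congrFun (congrFun (congrArg mat h) 3) 0
    rw [mat_five he] at this
    simp [mat] at this
  have hzero : ∀ a, a ∈ (f (P he 0 1)).ker → a ∈ (f (W he)).ker → a = 0 := fun a ha hb => by
    refine hfpf _ (Odd.of_dvd_nat (by decide) (orderOf_dvd_of_pow_eq_one (five_pow he))) hx1 a ?_
    rw [rho_comp, sub_eq_zero.1 (show ρ (W he) a - a = 0 from hb),
      sub_eq_zero.1 (show ρ (P he 0 1) a - a = 0 from ha)]
  have hinj : Function.Injective fun q : (f (P he 0 1)).ker × (f (W he)).ker => (q.1 : X) + q.2 := by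
    rintro ⟨a, b⟩ ⟨a', b'⟩ h
    simp only at h
    have h1 : (a : X) - a' = b' - b := by rw [sub_eq_sub_iff_add_eq_add, h, add_comm]
    have h0 : (a : X) - a' = 0 :=
      hzero _ (AddSubgroup.sub_mem _ a.2 a'.2) (h1 ▸ AddSubgroup.sub_mem _ b'.2 b.2)
    have ha : a = a' := Subtype.ext (sub_eq_zero.1 h0)
    have hb : b = b' := Subtype.ext (sub_eq_zero.1 (h1.symm.trans h0)).symm
    rw [ha, hb]
  have hab := Nat.card_le_card_of_injective _ hinj
  rw [Nat.card_prod] at hab
  have ha := card_le_ker_sq (f (P he 0 1)) (hsq _ hP)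
  have hb := card_le_ker_sq (f (W he)) (hsq _ hW)
  have hsum := (f (P he 0 1)).ker.card_mul_index
  rw [AddSubgroup.index_ker] at hsum
  have hr : Nat.card (f (P he 0 1)).range ≤ Nat.card (f (P he 0 1)).ker :=
    AddSubgroup.card_le_of_le (hsq _ hP)
  have heq : Nat.card (f (P he 0 1)).ker ≤ Nat.card (f (P he 0 1)).range := by
    nlinarith [Nat.card_pos (α := (f (P he 0 1)).ker), Nat.card_pos (α := (f (W he)).ker)]
  have h : (f (P he 0 1)).range = (f (P he 0 1)).ker :=
    AddSubgroup.eq_of_le_of_card_ge (hsq _ hP) heq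
  have : k ∈ (f (P he 0 1)).range := by rw [h]; exact hk
  exact this

variable {X : Type v} [AddCommGroup X] [Finite X]

theorem coe_tau_res (he : Twist F e) (ρ : Sz F e →* AddMonoid.End X) (K : AddSubgroup X)
    (hK : Inv ρ K) (b : F) (x : K) :
    ((tau he (resRep ρ K hK) b x : K) : X) = tau he ρ b (x : X) := rfl

theorem mk_tau (he : Twist F e) (ρ : Sz F e →* AddMonoid.End X) (K : AddSubgroup X)
    (hK : Inv ρ K) (b : F) (x : X) :
    ((tau he ρ b x : X) : X ⧸ K) = tau he (quoRep ρ K hK) b (x : X ⧸ K) := rfl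

/-- The data of a natural bottom and a natural top. -/
theorem engine' (he : Twist F e) (hb : ∃ b : F, b ^ e ≠ b) (ρ : Sz F e →* AddMonoid.End X)
    (hfpf : OddFpf ρ) (V K : AddSubgroup X) (hV : Inv ρ V) (hK : Inv ρ K) (hVK : V ≤ K)
    (ι : Nat4 F ≃+ V) (hι : ∀ g v, ι (mat g *ᵥ v) = resRep ρ V hV g (ι v))
    (π : X →+ Nat4 F) (hπsurj : Function.Surjective π) (hπ : ∀ g x, π (ρ g x) = mat g *ᵥ π x)
    (hπK : ∀ x, π x = 0 ↔ x ∈ K) (ε : F) (hε : ε = 0 ∨ ε = 1)
    (h2 : ∀ x : X, (2 : ℕ) • x = (ι (ε • π x) : X)) (hK2 : ∀ x ∈ K, (2 : ℕ) • x = 0)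
    (hKq : ∀ (b c : F) (x : K), tau he (resRep ρ K hK) b (tau he (resRep ρ K hK) c x) = 0)
    (hQq : ∀ (b c : F) (x : X ⧸ V), tau he (quoRep ρ V hV) b (tau he (quoRep ρ V hV) c x) = 0) :
    ε = 0 ∧ ∀ b c x, tau he ρ b (tau he ρ c x) = 0 := by
  haveI : CharP F 2 := CharTwo.of_one_ne_zero_of_two_eq_zero one_ne_zero he.two
  refine engine he hb ρ (V.subtype.comp ι.toAddMonoidHom) (V.subtype_injective.comp ι.injective)
    (fun g v => congrArg Subtype.val (hι g v)) π hπsurj hπ
    (fun v => (hπK _).2 (hVK (ι v).2)) ε hε h2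
    (fun k hk b c => ?_) (fun b c x => ?_) (fun k hk hk1 b => ?_)
  · exact congrArg Subtype.val (hKq b c ⟨k, (hπK k).1 hk⟩)
  · have h1 : tau he ρ b (tau he ρ c x) ∈ V := by
      rw [← QuotientAddGroup.eq_zero_iff, mk_tau he ρ V hV, mk_tau he ρ V hV]
      exact hQq b c x
    exact ⟨ι.symm ⟨_, h1⟩, by
      simp only [AddMonoidHom.comp_apply, AddEquiv.coe_toAddMonoidHom, AddEquiv.apply_symm_apply,
        AddSubgroup.subtype_apply]⟩
  · obtain ⟨y, hy⟩ := exists_tau_eq he (resRep ρ K hK)
      (fun x => Subtype.ext (hK2 x x.2)) (oddFpf_res ρ K hK hfpf)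
      (k := ⟨k, (hπK k).1 hk⟩) (Subtype.ext hk1)
    have h1 := congrArg Subtype.val (hKq b 1 y)
    rw [hy] at h1
    exact h1

/-- A nontrivial invariant top with its coordinates. -/
theorem exists_top (he : Twist F e) (ρ : Sz F e →* AddMonoid.End X) (hfpf : OddFpf ρ)
    (h4 : ∀ x : X, (4 : ℕ) • x = 0) (V : AddSubgroup X) (hV : Inv ρ V) (hVtop : V ≠ ⊤)
    (h2 : ∀ x : X, (2 : ℕ) • x ∈ V) :
    ∃ (K : AddSubgroup X) (_ : Inv ρ K) (π : X →+ Nat4 F), V ≤ K ∧ K ≠ ⊤ ∧
      Function.Surjective π ∧ (∀ g x, π (ρ g x) = mat g *ᵥ π x) ∧ ∀ x, π x = 0 ↔ x ∈ K := by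
  obtain ⟨K, hK, hVK, hKtop, hKirr⟩ := exists_max ρ V hV hVtop
  haveI : Nontrivial (X ⧸ K) := QuotientAddGroup.nontrivial_iff.2 hKtop
  obtain ⟨α, hα⟩ := natural_of_irred he (quoRep ρ K hK) (fun x => by
      induction x using QuotientAddGroup.induction_on with
      | _ x =>
        rw [← QuotientAddGroup.mk_nsmul, QuotientAddGroup.eq_zero_iff]
        exact hVK (h2 x))
    hKirr (oddFpf_quo ρ K hK h4 hfpf)
  refine ⟨K, hK, α.symm.toAddMonoidHom.comp (QuotientAddGroup.mk' K), hVK, hKtop,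
    α.symm.surjective.comp (QuotientAddGroup.mk'_surjective K), fun g x => α.injective ?_,
    fun x => ?_⟩
  · rw [hα]
    simp only [AddMonoidHom.comp_apply, AddEquiv.coe_toAddMonoidHom, AddEquiv.apply_symm_apply,
      QuotientAddGroup.mk'_apply, quoRep_mk]
  · simp only [AddMonoidHom.comp_apply, AddEquiv.coe_toAddMonoidHom, QuotientAddGroup.mk'_apply,
      EmbeddingLike.map_eq_zero_iff, QuotientAddGroup.eq_zero_iff]

/-- Two central elements act quadratically on an elementary module. -/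
theorem tau_tau (he : Twist F e) (hb : ∃ b : F, b ^ e ≠ b) :
    ∀ {X : Type v} [AddCommGroup X] [Finite X] (ρ : Sz F e →* AddMonoid.End X),
      (∀ x : X, (2 : ℕ) • x = 0) → OddFpf ρ → ∀ b c x, tau he ρ b (tau he ρ c x) = 0 := by
  intro X _ _ ρ
  induction hn : Nat.card X using Nat.strong_induction_on generalizing X with
  | _ n ih =>
    subst hn
    intro h2 hfpf
    rcases subsingleton_or_nontrivial X with hX | hX
    · exact fun b c x => Subsingleton.elim _ _
    obtain ⟨V, hV, hV0, hVirr⟩ := exists_min ρ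
    haveI : Nontrivial V := (AddSubgroup.nontrivial_iff_ne_bot V).2 hV0
    obtain ⟨ι, hι⟩ := natural_of_irred he (resRep ρ V hV) (fun x => Subtype.ext (h2 x)) hVirr
      (oddFpf_res ρ V hV hfpf)
    rcases eq_or_ne V ⊤ with hVtop | hVtop
    · intro b c x
      obtain ⟨v, hv⟩ := ι.surjective ⟨x, hVtop ▸ AddSubgroup.mem_top x⟩
      have hx : x = (ι v : X) := by rw [hv]
      have hτ : ∀ b v, tau he ρ b (ι v : X) = (ι (shift e b v) : X) := fun b v => by
        rw [shift_eq he, map_sub, hι, AddSubgroup.coe_sub, coe_resRep]; rfl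
      rw [hx, hτ, hτ, show shift e b (shift e c v) = 0 by
        funext i; fin_cases i <;> simp [shift], map_zero, AddSubgroup.coe_zero]
    have h4 : ∀ x : X, (4 : ℕ) • x = 0 := fun x => by
      rw [show (4 : ℕ) = 2 * 2 from rfl, mul_nsmul, h2]
    obtain ⟨K, hK, π, hVK, hKtop, hπs, hπ, hπK⟩ :=
      exists_top he ρ hfpf h4 V hV hVtop fun x => by rw [h2]; exact V.zero_mem
    exact (engine' he hb ρ hfpf V K hV hK hVK ι hι π hπs hπ hπK 0 (Or.inl rfl)
      (fun x => by rw [h2, zero_smul, map_zero, AddSubgroup.coe_zero]) (fun x _ => h2 x)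
      (ih _ (card_lt_of_ne_top hKtop) (resRep ρ K hK) rfl (fun x => Subtype.ext (h2 x))
        (oddFpf_res ρ K hK hfpf))
      (ih _ (card_quo_lt hV0) (quoRep ρ V hV) rfl (fun x => by
          induction x using QuotientAddGroup.induction_on with
          | _ x => rw [← QuotientAddGroup.mk_nsmul, h2, QuotientAddGroup.mk_zero])
        (oddFpf_quo ρ V hV h4 hfpf))).2

/-- A module of exponent dividing four has exponent two. -/
theorem two_nsmul_eq_zero (he : Twist F e) (hb : ∃ b : F, b ^ e ≠ b) :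
    ∀ {X : Type v} [AddCommGroup X] [Finite X] (ρ : Sz F e →* AddMonoid.End X),
      (∀ x : X, (4 : ℕ) • x = 0) → OddFpf ρ → ∀ x : X, (2 : ℕ) • x = 0 := by
  intro X _ _ ρ
  induction hn : Nat.card X using Nat.strong_induction_on generalizing X with
  | _ n ih =>
    subst hn
    intro h4 hfpf
    haveI : CharP F 2 := CharTwo.of_one_ne_zero_of_two_eq_zero one_ne_zero he.two
    rcases subsingleton_or_nontrivial X with hX | hX
    · exact fun x => Subsingleton.elim _ _
    obtain ⟨V, hV, hV0, hVirr⟩ := exists_min ρ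
    haveI : Nontrivial V := (AddSubgroup.nontrivial_iff_ne_bot V).2 hV0
    have hV2 : ∀ x : V, (2 : ℕ) • x = 0 := by
      let S : AddSubgroup V :=
        { carrier := {x | (2 : ℕ) • x = 0}
          zero_mem' := nsmul_zero 2
          add_mem' := fun {a b} ha hb => by
            simp only [Set.mem_setOf_eq] at ha hb ⊢; rw [nsmul_add, ha, hb, add_zero]
          neg_mem' := fun {a} ha => by
            simp only [Set.mem_setOf_eq] at ha ⊢; rw [neg_nsmul, ha, neg_zero] }
      have hS : Inv (resRep ρ V hV) S := fun g x hx => by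
        show (2 : ℕ) • resRep ρ V hV g x = 0
        rw [← map_nsmul, show (2 : ℕ) • x = 0 from hx, map_zero]
      intro x
      have hx : (2 : ℕ) • x ∈ S := by
        show (2 : ℕ) • (2 : ℕ) • x = 0
        exact Subtype.ext (by
          rw [AddSubgroup.coe_nsmul, AddSubgroup.coe_nsmul, ← mul_nsmul, h4]; rfl)
      rcases hVirr S hS with h | h
      · exact AddSubgroup.mem_bot.1 (h ▸ hx)
      · have : x ∈ S := by rw [h]; exact AddSubgroup.mem_top x
        exact this
    obtain ⟨ι, hι⟩ := natural_of_irred he (resRep ρ V hV) hV2 hVirr (oddFpf_res ρ V hV hfpf)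
    rcases eq_or_ne V ⊤ with hVtop | hVtop
    · intro x
      exact congrArg Subtype.val (hV2 ⟨x, hVtop ▸ AddSubgroup.mem_top x⟩)
    have hQ2 : ∀ x : X ⧸ V, (2 : ℕ) • x = 0 :=
      ih _ (card_quo_lt hV0) (quoRep ρ V hV) rfl (fun x => by
          induction x using QuotientAddGroup.induction_on with
          | _ x => rw [← QuotientAddGroup.mk_nsmul, h4, QuotientAddGroup.mk_zero])
        (oddFpf_quo ρ V hV h4 hfpf)
    have h2V : ∀ x : X, (2 : ℕ) • x ∈ V := fun x => by
      rw [← QuotientAddGroup.eq_zero_iff, QuotientAddGroup.mk_nsmul]; exact hQ2 _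
    obtain ⟨K, hK, π, hVK, hKtop, hπs, hπ, hπK⟩ := exists_top he ρ hfpf h4 V hV hVtop h2V
    have hK2 : ∀ x ∈ K, (2 : ℕ) • x = 0 := fun x hx =>
      congrArg Subtype.val (ih _ (card_lt_of_ne_top hKtop) (resRep ρ K hK) rfl
        (fun x => Subtype.ext (h4 x)) (oddFpf_res ρ K hK hfpf) ⟨x, hx⟩)
    -- doubling, from the top to the bottom
    choose lift hlift using hπs
    let d : X →+ V :=
      { toFun := fun x => ⟨(2 : ℕ) • x, h2V x⟩
        map_zero' := Subtype.ext (nsmul_zero 2)
        map_add' := fun x y => Subtype.ext (nsmul_add x y 2) }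
    have hdπ : ∀ x y, π x = π y → d x = d y := fun x y h => sub_eq_zero.1 (by
      rw [← map_sub]
      exact Subtype.ext (hK2 _ ((hπK _).1 (by rw [map_sub, h, sub_self]))))
    let m : Nat4 F →+ Nat4 F :=
      { toFun := fun v => ι.symm (d (lift v))
        map_zero' := by
          rw [hdπ (lift 0) 0 (by rw [hlift, map_zero]), map_zero, map_zero]
        map_add' := fun v w => by
          rw [← map_add ι.symm, ← map_add d]
          exact congrArg ι.symm (hdπ _ _ (by rw [map_add, hlift, hlift, hlift])) }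
    have hmd : ∀ x, ι (m (π x)) = d x := fun x => by
      show ι (ι.symm (d (lift (π x)))) = d x
      rw [AddEquiv.apply_symm_apply]
      exact hdπ _ _ (hlift _)
    have hm : ∀ g v, m (mat g *ᵥ v) = mat g *ᵥ m v := fun g v => ι.injective (by
      rw [hι, ← hlift v, ← hπ, hmd, hmd]
      exact Subtype.ext (map_nsmul _ _ _).symm)
    by_cases hm0 : m.ker = ⊤
    · intro x
      have h1 := hmd x
      rw [show m (π x) = 0 from AddMonoidHom.mem_ker.1 (hm0 ▸ AddSubgroup.mem_top _), map_zero] at h1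
      exact congrArg Subtype.val h1.symm
    have hker : m.ker = ⊥ := by
      by_contra h
      exact hm0 (nat_irred he _ (fun g v hv => by
        rw [AddMonoidHom.mem_ker] at hv ⊢; rw [hm, hv, Matrix.mulVec_zero]) h)
    have hinj : Function.Injective m := (AddMonoidHom.ker_eq_bot_iff m).1 hker
    exfalso
    refine one_ne_zero (α := F) (engine' he hb ρ hfpf V K hV hK hVK ι hι (m.comp π)
      ((Finite.injective_iff_surjective.1 hinj).comp fun v => ⟨_, hlift v⟩)
      (fun g x => by rw [AddMonoidHom.comp_apply, AddMonoidHom.comp_apply, hπ, hm])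
      (fun x => by rw [AddMonoidHom.comp_apply, map_eq_zero_iff m hinj, hπK]) 1 (Or.inr rfl)
      (fun x => by rw [one_smul, AddMonoidHom.comp_apply, hmd]; rfl) hK2
      (tau_tau he hb (resRep ρ K hK) (fun x => Subtype.ext (hK2 x x.2)) (oddFpf_res ρ K hK hfpf))
      (tau_tau he hb (quoRep ρ V hV) hQ2 (oddFpf_quo ρ V hV h4 hfpf))).1

/-- A nontrivial elementary module is natural or has a proper invariant subgroup. -/
theorem natural_or_split (he : Twist F e) [Nontrivial X] (ρ : Sz F e →* AddMonoid.End X)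
    (h2 : ∀ x : X, (2 : ℕ) • x = 0) (hfpf : OddFpf ρ) :
    (∃ ι : Nat4 F ≃+ X, ∀ g v, ι (mat g *ᵥ v) = ρ g (ι v)) ∨
      ∃ V : AddSubgroup X, Inv ρ V ∧ V ≠ ⊥ ∧ V ≠ ⊤ := by
  by_cases h : Irred ρ
  · exact Or.inl (natural_of_irred he ρ h2 h hfpf)
  · simp only [Irred, not_forall, not_or] at h
    obtain ⟨V, hV, h0, h1⟩ := h
    exact Or.inr ⟨V, hV, h0, h1⟩

/-- An equivariant biadditive map of elementary modules vanishes. -/
theorem biadditive_zero (he : Twist F e) (hb : ∃ b : F, b ^ e ≠ b) (n : ℕ) :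
    ∀ {X Y Z : Type v} [AddCommGroup X] [AddCommGroup Y] [AddCommGroup Z] [Finite X] [Finite Y]
      [Finite Z] (ρX : Sz F e →* AddMonoid.End X) (ρY : Sz F e →* AddMonoid.End Y)
      (ρZ : Sz F e →* AddMonoid.End Z), Nat.card X + Nat.card Y + Nat.card Z = n →
      (∀ x : X, (2 : ℕ) • x = 0) → (∀ y : Y, (2 : ℕ) • y = 0) → (∀ z : Z, (2 : ℕ) • z = 0) →
      OddFpf ρX → OddFpf ρY → OddFpf ρZ → ∀ β : X →+ Y →+ Z,
      (∀ g x y, β (ρX g x) (ρY g y) = ρZ g (β x y)) → ∀ x y, β x y = 0 := by
  induction n using Nat.strong_induction_on with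
  | _ n ih =>
    intro X Y Z _ _ _ _ _ _ ρX ρY ρZ hn h2X h2Y h2Z hX hY hZ β hβ
    rcases subsingleton_or_nontrivial Z with hZs | hZn
    · exact fun x y => Subsingleton.elim _ _
    rcases subsingleton_or_nontrivial X with hXs | hXn
    · exact fun x y => by rw [Subsingleton.elim x 0, map_zero, AddMonoidHom.zero_apply]
    rcases subsingleton_or_nontrivial Y with hYs | hYn
    · exact fun x y => by rw [Subsingleton.elim y 0, map_zero]
    have h4 : ∀ {U : Type v} [AddCommGroup U], (∀ u : U, (2 : ℕ) • u = 0) →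
        ∀ u : U, (4 : ℕ) • u = 0 := fun h u => by
      rw [show (4 : ℕ) = 2 * 2 from rfl, mul_nsmul, h]
    have hq2 : ∀ {U : Type v} [AddCommGroup U] (V : AddSubgroup U), (∀ u : U, (2 : ℕ) • u = 0) →
        ∀ u : U ⧸ V, (2 : ℕ) • u = 0 := fun V h u => by
      induction u using QuotientAddGroup.induction_on with
      | _ u => rw [← QuotientAddGroup.mk_nsmul, h, QuotientAddGroup.mk_zero]
    rcases natural_or_split he ρZ h2Z hZ with ⟨ιZ, hιZ⟩ | ⟨V, hV, hV0, hV1⟩
    swap
    · have h1 : ∀ x y, β x y ∈ V := fun x y => by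
        rw [← QuotientAddGroup.eq_zero_iff]
        exact ih _ (by have := card_quo_lt hV0; omega) ρX ρY (quoRep ρZ V hV) rfl h2X h2Y
          (hq2 V h2Z) hX hY (oddFpf_quo ρZ V hV (h4 h2Z) hZ)
          (AddMonoidHom.compHom (QuotientAddGroup.mk' V) |>.comp β)
          (fun g x y => congrArg (fun z : Z => (z : Z ⧸ V)) (hβ g x y)) x y
      let β' : X →+ Y →+ V := AddMonoidHom.mk' (fun x => (β x).codRestrict V (h1 x))
        fun x x' => AddMonoidHom.ext fun y => Subtype.ext (by
          show β (x + x') y = β x y + β x' y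
          rw [map_add, AddMonoidHom.add_apply])
      exact fun x y => congrArg Subtype.val (ih _ (by have := card_lt_of_ne_top hV1; omega) ρX ρY
        (resRep ρZ V hV) rfl h2X h2Y (fun v => Subtype.ext (h2Z v)) hX hY (oddFpf_res ρZ V hV hZ) β'
        (fun g x y => Subtype.ext (hβ g x y)) x y)
    rcases natural_or_split he ρX h2X hX with ⟨ιX, hιX⟩ | ⟨V, hV, hV0, hV1⟩
    swap
    · have h1 : ∀ x : V, ∀ y, β x y = 0 :=
        ih _ (by have := card_lt_of_ne_top hV1; omega) (resRep ρX V hV) ρY ρZ rfl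
          (fun v => Subtype.ext (h2X v)) h2Y h2Z (oddFpf_res ρX V hV hX) hY hZ
          (β.comp V.subtype) (fun g x y => hβ g x y)
      let β' : X ⧸ V →+ Y →+ Z := QuotientAddGroup.lift V β fun x hx =>
        AddMonoidHom.mem_ker.2 (AddMonoidHom.ext fun y => h1 ⟨x, hx⟩ y)
      exact fun x y => ih _ (by have := card_quo_lt hV0; omega) (quoRep ρX V hV) ρY ρZ rfl
        (hq2 V h2X) h2Y h2Z (oddFpf_quo ρX V hV (h4 h2X) hX) hY hZ β'
        (fun g x y => by
          induction x using QuotientAddGroup.induction_on with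
          | _ x => exact hβ g x y) (x : X ⧸ V) y
    rcases natural_or_split he ρY h2Y hY with ⟨ιY, hιY⟩ | ⟨V, hV, hV0, hV1⟩
    swap
    · have h1 : ∀ x, ∀ y : V, β x y = 0 :=
        ih _ (by have := card_lt_of_ne_top hV1; omega) ρX (resRep ρY V hV) ρZ rfl h2X
          (fun v => Subtype.ext (h2Y v)) h2Z hX (oddFpf_res ρY V hV hY) hZ
          ((β.flip.comp V.subtype).flip) (fun g x y => hβ g x y)
      let β' : X →+ (Y ⧸ V) →+ Z := (QuotientAddGroup.lift V β.flip fun y hy =>
        AddMonoidHom.mem_ker.2 (AddMonoidHom.ext fun x => h1 x ⟨y, hy⟩)).flip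
      exact fun x y => ih _ (by have := card_quo_lt hV0; omega) ρX (quoRep ρY V hV) ρZ rfl
        h2X (hq2 V h2Y) h2Z hX (oddFpf_quo ρY V hV (h4 h2Y) hY) hZ β'
        (fun g x y => by
          induction y using QuotientAddGroup.induction_on with
          | _ y => exact hβ g x y) x (y : Y ⧸ V)
    intro x y
    let β₀ : Nat4 F →+ Nat4 F →+ Nat4 F :=
      AddMonoidHom.mk' (fun v => (ιZ.symm.toAddMonoidHom.comp (β (ιX v))).comp ιY.toAddMonoidHom)
        fun v v' => AddMonoidHom.ext fun w => by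
          simp only [AddMonoidHom.comp_apply, AddMonoidHom.add_apply, AddEquiv.coe_toAddMonoidHom,
            map_add]
    have h0 := bilinear_zero he hb β₀ (fun g v w => ιZ.injective (by
      simp only [β₀, AddMonoidHom.mk'_apply, AddMonoidHom.comp_apply, AddEquiv.coe_toAddMonoidHom,
        AddEquiv.apply_symm_apply, hιX, hιY, hιZ, hβ])) (ιX.symm x) (ιY.symm y)
    simpa [β₀, EmbeddingLike.map_eq_zero_iff] using h0

end CfsgLib.Recognition.CNSuzuki
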